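import Cfsg.Agent.Omega.NO3S.ThmB.Trans
import Cfsg.Agent.Omega.FFThmM

/-!
# THEOREM B, the family of the smallest best offenders

`BFam S U L AA` : the members of `AA` are subgroups of `S` which act on `U` as elementary abelian groups, are best
offenders on `U`, can be cut down, and `AA` contains the `L`-conjugates of its members as far as they are in `S`.
Instances: the largest elementary abelian subgroups of `S`, and the best offenders of each level.

`DM U AA` : the members of `AA` which do not centralise `U`, with `|A / C_A(U)|` as small as possible.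

* `BFam.offM` : `A` is an offender on `V ≤ U`, if it does not centralise `V`;
* `BFam.min_cut` : `A ∩ C(U) ≤ B < A`, `|A| |C_U(A)| ≤ |B| |C_U(B)|`, `A ∈ DM` imply `B ≤ C(U)`;
* `BFam.DM_P`, `DM_P'`, `DM_ex` : the fields `DP, DP', ex` of `Fam`.
-/

set_option autoImplicit false

namespace Cfsg.Agent.Omega.NO3S.ThmB

open Subgroup Cfsg Cfsg.Agent.ZN Cfsg.Agent.ZN.ChoiceBase
open Cfsg.Agent.Omega.FFThm (ElemM OffM)

universe u

variable {G : Type u} [Group G]

/-- A family of best offenders on `U`. -/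
structure BFam (S U L : Subgroup G) (AA : Set (Subgroup G)) : Prop where
  le : ∀ A ∈ AA, A ≤ S
  elem : ∀ A ∈ AA, ElemM U A
  best : ∀ A ∈ AA, ∀ B : Subgroup G, A ⊓ centralizer (U : Set G) ≤ B → B ≤ A →
    Nat.card B * Nat.card ↥(U ⊓ centralizer (B : Set G)) ≤ Nat.card A * Nat.card ↥(U ⊓ centralizer (A : Set G))
  cut : ∀ A ∈ AA, ∀ B : Subgroup G, A ⊓ centralizer (U : Set G) ≤ B → B ≤ A →
    Nat.card B * Nat.card ↥(U ⊓ centralizer (B : Set G)) = Nat.card A * Nat.card ↥(U ⊓ centralizer (A : Set G)) →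
      ∃ B' ∈ AA, B' ⊔ centralizer (U : Set G) = B ⊔ centralizer (U : Set G)
  conj : ∀ A ∈ AA, ∀ g ∈ L, cj g A ≤ S → cj g A ∈ AA

/-- the members of `AA` which do not centralise `U`, with `|A / C_A(U)|` as small as possible -/
def DM (U : Subgroup G) (AA : Set (Subgroup G)) : Set (Subgroup G) :=
  {A | A ∈ AA ∧ ¬ A ≤ centralizer (U : Set G) ∧
    ∀ B ∈ AA, ¬ B ≤ centralizer (U : Set G) → (centralizer (U : Set G)).relIndex A ≤ (centralizer (U : Set G)).relIndex B}

theorem card_inf_relIndex {A C : Subgroup G} : C.relIndex A * Nat.card ↥(A ⊓ C) = Nat.card A := by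
  have e := relIndex_inf_mul_relIndex (⊥ : Subgroup G) C A
  rw [relIndex_bot_left, bot_inf_eq, relIndex_bot_left, mul_comm, inf_comm] at e
  exact e

theorem relIndex_cj {A C : Subgroup G} (g : G) : (cj g C).relIndex (cj g A) = C.relIndex A :=
  relIndex_map_map_of_injective _ _ (MulAut.conj g).injective

/-- `|V C| |V ∩ C| = |V| |C|` for `V` normalised by `C`. -/
theorem card_sup_mul_inf [Finite G] {V C : Subgroup G} (h : V ≤ centralizer (C : Set G)) :
    Nat.card ↥(V ⊔ C) * Nat.card ↥(V ⊓ C) = Nat.card V * Nat.card C :=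
  Cfsg.Agent.PLocal.ElemAbSup.card_sup_mul_card_inf (le_centralizer_iff.1 h)

/-- `|H K : K| = |H : H ∩ K|` for `K` normalised by `H`. -/
theorem relIndex_sup_nrm {K H : Subgroup G} (h : H ≤ normalizer (K : Set G)) : K.relIndex (H ⊔ K) = K.relIndex H := by
  have hKn : (K.subgroupOf (K ⊔ H)).Normal :=
    normal_subgroupOf_of_le_normalizer (sup_le le_normalizer h)
  have h1 := relIndex_sup_left (H.subgroupOf (K ⊔ H)) (K.subgroupOf (K ⊔ H))
  rw [← Subgroup.subgroupOf_sup le_sup_left le_sup_right, Subgroup.subgroupOf_self,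
    Subgroup.relIndex_subgroupOf le_sup_right, relIndex_top_right] at h1
  rw [sup_comm, ← h1]
  rfl

theorem cj_le_cj_iff {g : G} {H K : Subgroup G} : cj g H ≤ cj g K ↔ H ≤ K := by
  rw [cj_le_iff, cj_inv_cj]

theorem le_normalizer_centralizer {S U : Subgroup G} (h : S ≤ normalizer (U : Set G)) :
    S ≤ normalizer ((centralizer (U : Set G) : Subgroup G) : Set G) := fun s hs => by
  have h1 : cj s (centralizer (U : Set G)) = centralizer (U : Set G) := by
    rw [cj_centralizer, cj_eq_of_mem_normalizer (h hs)]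
  refine mem_normalizer_iff.2 fun x => ⟨fun hx => ?_, fun hx => ?_⟩
  · have h2 := mem_cj_of (g := s) hx
    rwa [h1] at h2
  · rw [← h1] at hx
    obtain ⟨y, hy, e⟩ := exists_of_mem_cj hx
    rw [mul_left_cancel (mul_right_cancel e)]
    exact hy

theorem norm_sSup [Finite G] {P : Subgroup G} {D : Set (Subgroup G)} (h : ∀ A ∈ D, ∀ g ∈ P, cj g A ∈ D) :
    P ≤ normalizer ((sSup D : Subgroup G) : Set G) := fun g hg =>
  mem_normalizer_of_cj_le (cj_le_iff.2 (sSup_le fun A hA => cj_le_iff.1 (le_sSup (h A hA g hg))))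

namespace BFam

variable {S U L : Subgroup G} {AA : Set (Subgroup G)} (F : BFam S U L AA)

include F

/-- A best offender on `U` is an offender on `V ≤ U`. -/
theorem le_of_best [Finite G] (hU : IsElementaryAbelian 2 U) {V A : Subgroup G} (hVU : V ≤ U) (hA : A ∈ AA) :
    Nat.card V * Nat.card ↥(A ⊓ centralizer (V : Set G)) ≤ Nat.card A * Nat.card ↥(V ⊓ centralizer (A : Set G)) := by
  have hC : centralizer (U : Set G) ≤ centralizer (V : Set G) := centralizer_le hVU
  have h1 := F.best A hA (A ⊓ centralizer (V : Set G)) (inf_le_inf_left A hC) inf_le_left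
  have h2 : V ⊔ (U ⊓ centralizer (A : Set G)) ≤ U ⊓ centralizer ((A ⊓ centralizer (V : Set G) : Subgroup G) : Set G) := by
    refine sup_le (le_inf hVU fun v hv => mem_centralizer_iff.2 fun a ha => ?_)
      (inf_le_inf_left U (centralizer_le inf_le_left))
    exact (mem_centralizer_iff.1 ha.2 v hv).symm
  have h3 := card_le_of_le h2
  have h4 : V ≤ centralizer ((U ⊓ centralizer (A : Set G) : Subgroup G) : Set G) := fun v hv =>
    mem_centralizer_iff.2 fun c hc => elem_comm hU hc.1 (hVU hv)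
  have h5 := card_sup_mul_inf h4
  have e : V ⊓ (U ⊓ centralizer (A : Set G)) = V ⊓ centralizer (A : Set G) := by
    rw [← inf_assoc, inf_eq_left.2 hVU]
  rw [e] at h5
  have hp1 : 0 < Nat.card ↥(U ⊓ centralizer (A : Set G)) := Nat.card_pos
  refine Nat.le_of_mul_le_mul_right (c := Nat.card ↥(U ⊓ centralizer (A : Set G))) ?_ hp1
  calc Nat.card V * Nat.card ↥(A ⊓ centralizer (V : Set G)) * Nat.card ↥(U ⊓ centralizer (A : Set G))
      = Nat.card ↥(A ⊓ centralizer (V : Set G)) * (Nat.card V * Nat.card ↥(U ⊓ centralizer (A : Set G))) := by ring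
    _ = Nat.card ↥(A ⊓ centralizer (V : Set G)) *
        (Nat.card ↥(V ⊔ (U ⊓ centralizer (A : Set G))) * Nat.card ↥(V ⊓ centralizer (A : Set G))) := by rw [h5]
    _ ≤ Nat.card ↥(A ⊓ centralizer (V : Set G)) *
        (Nat.card ↥(U ⊓ centralizer ((A ⊓ centralizer (V : Set G) : Subgroup G) : Set G)) *
          Nat.card ↥(V ⊓ centralizer (A : Set G))) :=
        Nat.mul_le_mul_left _ (Nat.mul_le_mul_right _ h3)
    _ = Nat.card ↥(A ⊓ centralizer (V : Set G)) *
        Nat.card ↥(U ⊓ centralizer ((A ⊓ centralizer (V : Set G) : Subgroup G) : Set G)) *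
          Nat.card ↥(V ⊓ centralizer (A : Set G)) := by ring
    _ ≤ Nat.card A * Nat.card ↥(U ⊓ centralizer (A : Set G)) * Nat.card ↥(V ⊓ centralizer (A : Set G)) :=
        Nat.mul_le_mul_right _ h1
    _ = Nat.card A * Nat.card ↥(V ⊓ centralizer (A : Set G)) * Nat.card ↥(U ⊓ centralizer (A : Set G)) := by ring

theorem offM [Finite G] (hU : IsElementaryAbelian 2 U) {V A : Subgroup G} (hVU : V ≤ U) (hA : A ∈ AA)
    (hne : ¬ A ≤ centralizer (V : Set G)) : OffM V A where
  sq a ha := centralizer_le hVU ((F.elem A hA).sq a ha)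
  comm a ha b hb := centralizer_le hVU ((F.elem A hA).comm a ha b hb)
  ne := hne
  le := F.le_of_best hU hVU hA

/-- A member of `DM` cannot be cut down. -/
theorem min_cut [Finite G] (hSU : S ≤ normalizer (U : Set G)) {A B : Subgroup G} (hA : A ∈ DM U AA) (h1 : A ⊓ centralizer (U : Set G) ≤ B) (h2 : B ≤ A)
    (hne : B ≠ A)
    (h3 : Nat.card A * Nat.card ↥(U ⊓ centralizer (A : Set G)) ≤ Nat.card B * Nat.card ↥(U ⊓ centralizer (B : Set G))) :
    B ≤ centralizer (U : Set G) := by
  by_contra hB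
  obtain ⟨B', hB', e⟩ := F.cut A hA.1 B h1 h2 (le_antisymm (F.best A hA.1 B h1 h2) h3)
  have hB'U : ¬ B' ≤ centralizer (U : Set G) := fun h => hB (by
    have h4 : B' ⊔ centralizer (U : Set G) ≤ centralizer (U : Set G) := sup_le h le_rfl
    rw [e] at h4
    exact le_sup_left.trans h4)
  have h4 := hA.2.2 B' hB' hB'U
  have h5 : (centralizer (U : Set G)).relIndex B' = (centralizer (U : Set G)).relIndex B := by
    have h6 := le_normalizer_centralizer hSU
    rw [← relIndex_sup_nrm ((F.le B' hB').trans h6), ← relIndex_sup_nrm ((h2.trans (F.le A hA.1)).trans h6), e]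
  rw [h5] at h4
  have e1 := card_inf_relIndex (A := A) (C := centralizer (U : Set G))
  have e2 := card_inf_relIndex (A := B) (C := centralizer (U : Set G))
  have e3 : B ⊓ centralizer (U : Set G) = A ⊓ centralizer (U : Set G) :=
    le_antisymm (inf_le_inf_right _ h2) (le_inf h1 inf_le_right)
  rw [e3] at e2
  have h6 : Nat.card A ≤ Nat.card B := by
    rw [← e1, ← e2]
    exact Nat.mul_le_mul_right _ h4
  exact hne (eq_of_le_of_card_ge h2 h6)

/-- `DM` is invariant under the elements of `L` which normalise `U` and do not move its members out of `S`. -/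
theorem DM_conj (hL : L ≤ normalizer (U : Set G)) {A : Subgroup G} (hA : A ∈ DM U AA) {g : G} (hg : g ∈ L)
    (hS : cj g A ≤ S) : cj g A ∈ DM U AA := by
  have e : cj g (centralizer (U : Set G)) = centralizer (U : Set G) := by
    rw [cj_centralizer, cj_eq_of_mem_normalizer (hL hg)]
  refine ⟨F.conj A hA.1 g hg hS, fun h => hA.2.1 ?_, fun B hB hB' => ?_⟩
  · rw [← e] at h
    exact cj_le_cj_iff.1 h
  · have h1 := hA.2.2 B hB hB'
    have h2 := relIndex_cj (A := A) (C := centralizer (U : Set G)) g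
    rw [e] at h2
    rwa [h2]

/-- **The fields of `Fam`** which do not depend on the action on `V`. -/
theorem DM_P (hL : L ≤ normalizer (U : Set G)) {P : Subgroup G} (hP : P ≤ L) (hPS : ∀ A ∈ AA, ∀ g ∈ P, cj g A ≤ S)
    {A : Subgroup G} (hA : A ∈ DM U AA) {g : G} (hg : g ∈ P) : cj g A ∈ DM U AA :=
  F.DM_conj hL hA (hP hg) (hPS A hA.1 g hg)

/-- Some member of `DM` does not centralise `V`. -/
theorem DM_ex [Finite G] (hL : L ≤ normalizer (U : Set G)) {P P' V : Subgroup G} (hP : P ≤ L) (hP' : P' ≤ L)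
    (hVU : V ≤ U) (hPS : ∀ A ∈ AA, ∀ g ∈ P, cj g A ≤ S)
    (hPS' : ∀ A ∈ AA, A ≤ centralizer (V : Set G) → ∀ h ∈ P', cj h A ≤ S)
    (hne : ∃ A ∈ AA, ¬ A ≤ centralizer (V : Set G))
    (hO : ∀ N : Subgroup G, N ≤ S → P ≤ normalizer (N : Set G) → P' ≤ normalizer (N : Set G) →
      N ≤ centralizer (U : Set G)) : ∃ A, Fr V (DM U AA) A := by
  by_contra h0
  have h0' : ∀ A ∈ DM U AA, A ≤ centralizer (V : Set G) := fun A hA => by
    by_contra h1
    exact h0 ⟨A, hA, h1⟩
  have hC : centralizer (U : Set G) ≤ centralizer (V : Set G) := centralizer_le hVU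
  -- `DM` is not empty
  obtain ⟨A, hA⟩ : ∃ A, A ∈ DM U AA := by
    obtain ⟨A1, hA1, hA1'⟩ := hne
    have h1 : ∃ n, ∃ A ∈ AA, ¬ A ≤ centralizer (U : Set G) ∧ (centralizer (U : Set G)).relIndex A = n :=
      ⟨_, A1, hA1, fun h => hA1' (h.trans hC), rfl⟩
    classical
    obtain ⟨A, hA, hA', hn⟩ := Nat.find_spec h1
    refine ⟨A, hA, hA', fun B hB hB' => ?_⟩
    rw [hn]
    exact Nat.find_min' h1 ⟨B, hB, hB', rfl⟩
  refine hA.2.1 ((le_sSup hA).trans (hO (sSup (DM U AA)) (sSup_le fun B hB => F.le B hB.1) ?_ ?_))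
  · exact norm_sSup fun B hB g hg => F.DM_P hL hP hPS hB hg
  · exact norm_sSup fun B hB g hg => F.DM_conj hL hB (hP' hg) (hPS' B hB.1 (h0' B hB) g hg)

end BFam

end Cfsg.Agent.Omega.NO3S.ThmB
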