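import Cfsg.Agent.Omega.NO3S.ThmB.Main

/-!
# THEOREM B at the limit level

* `zl_le_VB` : `V_R ≤ V^!(S)` for all `R ∈ P**` implies the same for all `R ∈ P*(S)` (some `P ∈ P**` with `|Z| = 2` or
  `V_P` of the types of the FF theorem);
* `le_norm_lim_hypC` : then all of `P*(S)` normalises `lim S` and `V^!(S)`.
-/

set_option autoImplicit false
set_option linter.unusedSectionVars false

namespace Cfsg.Agent.Omega.NO3S.ThmB.Limit

open Subgroup Cfsg Cfsg.Agent.ZN Cfsg.Agent.ZN.ChoiceBase Cfsg.Agent.Omega.MinPar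
open Cfsg.Agent.Omega.NO3S Cfsg.Agent.Omega.NO3S.ThmB Cfsg.Agent.Omega.NO3S.ThmB.Main
open Cfsg.Agent.Omega.FrameNOFF (CZ)

universe u

variable {G : Type u} [Group G] [Finite G] {S : Sylow 2 G} {P : Subgroup G}

/-- **The limit level**: if `lim S ≤ O₂(R)` for all `R ∈ P**`, then for all `R ∈ P*(S)`. -/
theorem lim_le (h : HypN S P) (hty : Ty (S : Subgroup G) P)
    (hV : ∀ R : Subgroup G, IsParS (S : Subgroup G) R → NonLoc R (CZ (S : Subgroup G)) →
      zl (S : Subgroup G) R ≤ Level.VB (S : Subgroup G)) :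
    ∀ R : Subgroup G, IsParS (S : Subgroup G) R → Level.lim (S : Subgroup G) ≤ o2 R := by
  intro R hR
  have key := hpar h hty (n := Nat.card G + 1) fun R hR hRn => by
    rw [Level.lev_lim]
    exact (Level.zl_le_VB_iff h.ctx.char2 hR).1 (hV R hR hRn)
  have h1 := key R hR
  rwa [Level.lev_lim] at h1

/-- **The limit level**: if `V_R ≤ V^!(S)` for all `R ∈ P**`, then for all `R ∈ P*(S)`. -/
theorem zl_le_VB (h : HypN S P) (hty : Ty (S : Subgroup G) P)
    (hV : ∀ R : Subgroup G, IsParS (S : Subgroup G) R → NonLoc R (CZ (S : Subgroup G)) →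
      zl (S : Subgroup G) R ≤ Level.VB (S : Subgroup G)) :
    ∀ R : Subgroup G, IsParS (S : Subgroup G) R → zl (S : Subgroup G) R ≤ Level.VB (S : Subgroup G) :=
  fun R hR => (Level.zl_le_VB_iff h.ctx.char2 hR).2 (lim_le h hty hV R hR)

/-- The type condition over `HypC`, `P ∈ P**` an FF-line (`FFMod`). -/
theorem ty_of_ffMod (h : HypN S P) (hff : FFMod (S : Subgroup G) P) : Ty (S : Subgroup G) P :=
  Or.inr (h.toHyp.ff FF.Glob.ffthmM hff).2

/-- **The limit level over `HypC`**, `P ∈ P**` an FF-line (`FFMod`). -/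
theorem zl_le_VB_hypC (h : HypC S) (hP : IsParS (S : Subgroup G) P) (hPn : NonLoc P (CZ (S : Subgroup G)))
    (hff : FFMod (S : Subgroup G) P)
    (hV : ∀ R : Subgroup G, IsParS (S : Subgroup G) R → NonLoc R (CZ (S : Subgroup G)) →
      zl (S : Subgroup G) R ≤ Level.VB (S : Subgroup G)) :
    ∀ R : Subgroup G, IsParS (S : Subgroup G) R → zl (S : Subgroup G) R ≤ Level.VB (S : Subgroup G) :=
  zl_le_VB (h.hypN hP hPn) (ty_of_ffMod (h.hypN hP hPn) hff) hV

/-- Then all of `P*(S)` and `N_G(S)` normalise `lim S` and `V^!(S)`. -/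
theorem le_norm_lim_hypC (h : HypC S) (hP : IsParS (S : Subgroup G) P) (hPn : NonLoc P (CZ (S : Subgroup G)))
    (hff : FFMod (S : Subgroup G) P)
    (hV : ∀ R : Subgroup G, IsParS (S : Subgroup G) R → NonLoc R (CZ (S : Subgroup G)) →
      zl (S : Subgroup G) R ≤ Level.VB (S : Subgroup G)) :
    ∀ R : Subgroup G, IsParS (S : Subgroup G) R →
      R ≤ normalizer (Level.lim (S : Subgroup G) : Set G) ∧ R ≤ normalizer (Level.VB (S : Subgroup G) : Set G) :=
  fun R hR =>
    have h1 := Level.le_norm_lim h.ctx.char2 hR (zl_le_VB_hypC h hP hPn hff hV R hR)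
    ⟨h1, h1.trans (Level.norm_lim_le _)⟩

end Cfsg.Agent.Omega.NO3S.ThmB.Limit
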