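import Cfsg.Agent.Omega.NO3S.ThmB.NatFam
import Cfsg.Agent.Omega.NO3S.ThmB.Torus
import Cfsg.Agent.Omega.NO3S.ThmB.End.NatIdx
import Cfsg.Agent.Omega.NO3S.ThmB.End.SLIdx

/-!
# THEOREM B, (B2): the end, natural case

`P'` natural, `W = ⟨Z^P⟩` a sum of natural `SL₂(F₀)`-modules for `P`, `4 ≤ |F₀|`, `N_P(S)` transitive on `Z#`:
impossible.

`c := [V, B]`, `N := N_P(c)`: `P = S N` (`Fam.dec`), so `N` induces `SL₂(F₀)` on every summand of `W`
(`NatIdx.main`) and `N ∩ S` all upper unitriangular matrices.  `K_B`, the product of the other groups `[V, B']`, does not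
contain `W`, so it intersects a summand trivially (`Nb.exists_summand`), and `N ∩ S` is not cyclic on `c`
(`Nb.b2`), contrary to `cyc`.
-/

set_option autoImplicit false

namespace Cfsg.Agent.Omega.NO3S.ThmB

open Subgroup Cfsg Cfsg.Agent.ZN Cfsg.Agent.ZN.ChoiceBase Cfsg.Agent.ZN.ChoiceSit
open Cfsg.Agent.Omega.FFThm Cfsg.Agent.Omega.NatPair Cfsg.Agent.Lib.SL2Mat

universe u

variable {G : Type u} [Group G]

namespace Fam

variable {S P P' U V J : Subgroup G} {DD : Set (Subgroup G)} (F : Fam S P P' U V J DD)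
variable {Z : Subgroup G} (T : TrHyp S P P' U V DD Z)

include F T

/-- `[V, B]^g = [V, B^g]` -/
theorem cj_com {g : G} (hg : g ∈ P) {B : Subgroup G} (hB : Fr V DD B) : cj g ⁅V, B⁆ = ⁅V, cj g B⁆ := by
  rw [F.conj_commutator hB hg, F.commutator_eq (F.step4 T hg hB)]

/-- `P = S N_P([V, B])` -/
theorem dec {B : Subgroup G} (hB : Fr V DD B) {g : G} (hg : g ∈ P) :
    ∃ s ∈ S, ∃ x ∈ P ⊓ normalizer ((⁅V, B⁆ : Subgroup G) : Set G), g = s * x := by
  obtain ⟨s, hs, e⟩ := T.orb B hB (cj g B) (F.step4 T hg hB)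
  refine ⟨s, hs, s⁻¹ * g, mem_inf.2 ⟨mul_mem (inv_mem (F.SP hs)) hg, ?_⟩, by group⟩
  rw [mem_normalizer_iff_cj, ← cj_cj, F.cj_com T hg hB, ← e, cj_inv_cj]

/-- `N_P([V, B])` normalises `K_B` -/
theorem N_le_KB {B : Subgroup G} (hB : Fr V DD B) :
    P ⊓ normalizer ((⁅V, B⁆ : Subgroup G) : Set G) ≤ normalizer (KB V DD B : Set G) := by
  have key : ∀ x ∈ P ⊓ normalizer ((⁅V, B⁆ : Subgroup G) : Set G), cj x (KB V DD B) ≤ KB V DD B := fun x hx => by
    have h1 := F.cj_KB T hx.1 hB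
    have h2 : ⁅V, cj x B⁆ = ⁅V, B⁆ := by
      rw [← F.cj_com T hx.1 hB, mem_normalizer_iff_cj.1 hx.2]
    rwa [KB_congr h2] at h1
  intro x hx
  rw [mem_normalizer_iff_cj]
  refine le_antisymm (key x hx) ?_
  have h2 := cj_mono x (key x⁻¹ (inv_mem hx))
  rwa [cj_cj_inv] at h2

omit T in
/-- An element which centralises `[V, B]` and normalises `K_B` moves `M1` inside `K_B`. -/
theorem mod_KB {B : Subgroup G} (hB : Fr V DD B) {x : G} (hx : x ∈ normalizer (KB V DD B : Set G))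
    (hc : ∀ a ∈ ⁅V, B⁆, x * a = a * x) {w : G} (hw : w ∈ M1 V DD) : x * w * x⁻¹ * w⁻¹ ∈ KB V DD B := by
  obtain ⟨a, ha, b, hb, rfl⟩ := F.M1_dec hB hw
  have h1 : x * b * x⁻¹ ∈ KB V DD B := (mem_normalizer_iff.1 hx b).1 hb
  have h2 : x * b * x⁻¹ * b⁻¹ ∈ KB V DD B := mul_mem h1 (inv_mem hb)
  have h3 := F.comm (F.VU (F.com_le hB ha)) (F.VU (F.KB_le B h2))
  have e : x * (a * b) * x⁻¹ * (a * b)⁻¹ = x * b * x⁻¹ * b⁻¹ := by
    calc x * (a * b) * x⁻¹ * (a * b)⁻¹ = (x * a) * b * x⁻¹ * b⁻¹ * a⁻¹ := by group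
      _ = (a * x) * b * x⁻¹ * b⁻¹ * a⁻¹ := by rw [hc a ha]
      _ = a * (x * b * x⁻¹ * b⁻¹) * a⁻¹ := by group
      _ = x * b * x⁻¹ * b⁻¹ := by rw [h3]; group
  rw [e]
  exact h2

/-- `S`-conjugates: a subgroup normalised by `S` and contained in `K_B` is contained in all `K_{B'}`. -/
theorem le_KB {B : Subgroup G} (hB : Fr V DD B) {W : Subgroup G} (hW : S ≤ normalizer (W : Set G))
    (h : W ≤ KB V DD B) {B' : Subgroup G} (hB' : Fr V DD B') : W ≤ KB V DD B' := by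
  obtain ⟨s, hs, e⟩ := T.orb B hB B' hB'
  have h1 := F.cj_KB T (F.SP hs) hB
  have h2 : ⁅V, cj s B⁆ = ⁅V, B'⁆ := by rw [← F.cj_com T (F.SP hs) hB, e]
  rw [KB_congr h2] at h1
  have h3 := cj_mono s h
  rw [cj_eq_of_mem_normalizer (hW hs)] at h3
  exact h3.trans h1

end Fam

namespace Nb

variable [Finite G] {F : Type} [Field F] [Finite F] [CharP F 2] {S P P' V D U L : Subgroup G} {k : ℕ}
  {M : NatKM F S P' V D k} (h : Nb M) {AA : Set (Subgroup G)} (X : BSit S P P' U V L AA)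

include h X

/-- `K_B` has trivial component at the index of `B`. -/
theorem KB_zero {B : Subgroup G} (hB : Fr V (DM U AA) B) {i : Fin k} (O : One M U B i) {x : G}
    (hx : x ∈ KB V (DM U AA) B) : M.e x i = 0 := by
  have hle := (h.fam X).KB_le B
  have hx' := hx
  rw [KB] at hx'
  induction hx' using closure_induction with
  | mem x hx' =>
    obtain ⟨B', hB', hne, hx'⟩ := hx'
    obtain ⟨j, O'⟩ := h.one X hB'
    have hji : i ≠ j := by
      rintro rfl
      exact hne (le_antisymm (h.comm_eq_of_idx (X.le _ hB'.1.1) (X.le _ hB.1.1) O' O)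
        (h.comm_eq_of_idx (X.le _ hB.1.1) (X.le _ hB'.1.1) O O'))
    exact (h.e_comm (X.le _ hB'.1.1) O' hx').2.1 i hji
  | one => rw [e_one]; rfl
  | mul x y hx1 hy1 ihx ihy =>
    rw [M.mul x (hle hx1) y (hle hy1), Pi.add_apply, ihx hx1, ihy hy1, add_zero]
  | inv x hx1 ih => rw [h.e_inv (hle hx1), ih hx1]

/-- `KK` centralises `D` -/
theorem D_le_CK : D ≤ CK P' V (DM U AA) := by
  intro d hd
  have h1 : ∀ y ∈ P', ∀ B, Fr V (DM U AA) B → ∀ b ∈ B, y * b * y⁻¹ * d = d * (y * b * y⁻¹) := by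
    intro y hy B hB b hb
    obtain ⟨i, O⟩ := h.one X hB
    obtain ⟨β, hβ⟩ := O.act b hb
    have h2 := hβ.2 _ (conj_mem' h.DP' hy hd)
    calc y * b * y⁻¹ * d = y * (b * (y⁻¹ * d * y)) * y⁻¹ := by group
      _ = y * (y⁻¹ * d * y * b) * y⁻¹ := by rw [h2]
      _ = d * (y * b * y⁻¹) := by group
  have hK1 : K1 P' V (DM U AA) ≤ P' := by
    rw [K1, closure_le]
    rintro x ⟨B, hB, y, hy, hx⟩
    obtain ⟨b, hb, rfl⟩ := exists_of_mem_cj hx
    exact mul_mem (mul_mem hy (h.SP' (X.le _ hB.1.1 hb))) (inv_mem hy)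
  have h2 : KK P' V (DM U AA) ≤ centralizer ({d} : Set G) := by
    rw [KK, closure_le]
    rintro x ⟨B, hB, y, hy, hx⟩
    obtain ⟨b, hb, rfl⟩ := exists_of_mem_cj hx
    rw [SetLike.mem_coe, mem_centralizer_iff]
    intro z hz
    rw [Set.mem_singleton_iff] at hz
    rw [hz]
    exact (h1 y (hK1 hy) B hB b hb).symm
  exact mem_centralizer_iff.2 fun x hx => (mem_centralizer_iff.1 (h2 hx) d rfl).symm

variable {Z : Subgroup G} (T : TrHyp S P P' U V (DM U AA) Z)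
variable {F0 : Type} [Field F0] [Finite F0] [CharP F0 2] {W D0 : Subgroup G} {k0 : ℕ} (N : NatK F0 S P W D0 k0)

include T

omit [Finite F0] [CharP F0 2] in
/-- a summand of `W` which intersects `K_B` trivially -/
theorem exists_summand (hD0 : D0 = ⊥) (hWP : P ≤ normalizer (W : Set G)) (hZW : Z ≤ W)
    {B : Subgroup G} (hB : Fr V (DM U AA) B)
    (hN : ∀ i (A : Matrix.SpecialLinearGroup (Fin 2) F0), ∃ x ∈ P ⊓ normalizer ((⁅V, B⁆ : Subgroup G) : Set G),
      ActsSL N.e W D0 x (Pi.mulSingle i A)) :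
    ∃ i, ∀ w ∈ W, (∀ l, l ≠ i → N.e w l = 0) → w ∈ KB V (DM U AA) B → w = 1 := by
  by_contra hcon
  push Not at hcon
  have Fm := h.fam X
  have e1 : N.e 1 = 0 := Cfsg.Agent.Omega.NO3S.ThmB.e_one N
  -- every summand is contained in `K_B`
  have h1 : ∀ i, ∀ w ∈ W, (∀ l, l ≠ i → N.e w l = 0) → w ∈ KB V (DM U AA) B := by
    intro i w hw hwl
    obtain ⟨w0, hw0, hw0l, hw0K, hw01⟩ := hcon i
    by_cases h0 : N.e w i = 0
    · have h2 : N.e w = 0 := by
        funext l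
        by_cases hl : l = i
        · rw [hl, h0]; rfl
        · rw [hwl l hl]; rfl
      have h3 := (N.ker w hw).1 h2
      rw [hD0, mem_bot] at h3
      rw [h3]; exact one_mem _
    · have h00 : N.e w0 i ≠ 0 := fun h00 => hw01 (by
        have h2 : N.e w0 = 0 := by
          funext l
          by_cases hl : l = i
          · rw [hl, h00]; rfl
          · rw [hw0l l hl]; rfl
        have h3 := (N.ker w0 hw0).1 h2
        rwa [hD0, mem_bot] at h3)
      obtain ⟨A, hA⟩ : ∃ A : Matrix.SpecialLinearGroup (Fin 2) F0, ap A (N.e w0 i) = N.e w i := by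
        obtain ⟨A1, hA1⟩ := exists_ap_e h00
        obtain ⟨A2, hA2⟩ := exists_ap_e h0
        exact ⟨A2 * A1⁻¹, by rw [ap_mul, ← hA1, ap_inv_ap, hA2]⟩
      obtain ⟨x, hx, hxA⟩ := hN i A
      have hxw : x * w0 * x⁻¹ ∈ W := conj_mem hWP hx.1 hw0
      have h2 : x * w0 * x⁻¹ = w := by
        refine Cfsg.Agent.Omega.NO3S.ThmB.e_inj N hD0 hxw hw ?_
        funext l
        rw [hxA.1 w0 hw0 l]
        by_cases hl : l = i
        · rw [hl, Pi.mulSingle_eq_same, hA]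
        · rw [Pi.mulSingle_eq_of_ne hl, ap_one, hw0l l hl, hwl l hl]
      rw [← h2]
      exact (mem_normalizer_iff.1 (Fm.N_le_KB T hB hx) w0).1 hw0K
  -- so `W` is contained in `K_B`
  have h2 : W ≤ KB V (DM U AA) B := by
    classical
    have key : ∀ (s : Finset (Fin k0)) (w : G), w ∈ W → (∀ l, l ∉ s → N.e w l = 0) → w ∈ KB V (DM U AA) B := by
      intro s
      induction s using Finset.induction_on with
      | empty =>
        intro w hw hwl
        have h3 : N.e w = 0 := by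
          funext l
          rw [hwl l (Finset.notMem_empty l)]; rfl
        have h4 := (N.ker w hw).1 h3
        rw [hD0, mem_bot] at h4
        rw [h4]; exact one_mem _
      | insert a s has ih =>
        intro w hw hwl
        obtain ⟨w', hw', he⟩ := N.surj (Pi.single a (N.e w a))
        have h3 := h1 a w' hw' fun l hl => by rw [he, Pi.single_eq_of_ne hl]
        have h4 := ih (w * w'⁻¹) (mul_mem hw (inv_mem hw')) fun l hl => by
          rw [N.mul w hw _ (inv_mem hw'), Cfsg.Agent.Omega.NO3S.ThmB.e_inv N hw', he, Pi.add_apply, Pi.neg_apply]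
          by_cases hla : l = a
          · rw [hla, Pi.single_eq_same, add_neg_cancel]
          · rw [Pi.single_eq_of_ne hla, neg_zero, add_zero]
            exact hwl l (by simp [hla, hl])
        have h5 := mul_mem h4 h3
        rwa [inv_mul_cancel_right] at h5
    intro w hw
    exact key Finset.univ w hw fun l hl => absurd (Finset.mem_univ l) hl
  -- contradiction
  obtain ⟨z, hz, hzC⟩ := T.mv
  apply hzC
  refine h.D_le_CK X ?_
  have hzK : ∀ B', Fr V (DM U AA) B' → z ∈ KB V (DM U AA) B' := fun B' hB' =>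
    Fm.le_KB T hB (Fm.SP.trans hWP) h2 hB' (hZW hz)
  rw [← M.ker z (Fm.KB_le B (hzK B hB))]
  funext j
  obtain ⟨i, O⟩ := h.one X hB
  obtain ⟨s, hs, hB', O'⟩ := h.exists_idx X hB O j
  exact h.KB_zero X hB' O' (hzK _ hB')

omit X T h [Finite G] [Finite F] [CharP F 2] [Finite F0] in
/-- powers of an upper unitriangular element -/
theorem zpow_acts (hWP : P ≤ normalizer (W : Set G)) {s : G} (hs : s ∈ P) {i : Fin k0} {β : F0}
    (hA : ActsSL N.e W D0 s (Pi.mulSingle i (up β))) (n : ℤ) :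
    ∃ γ, (γ = 0 ∨ γ = β) ∧ ActsSL N.e W D0 (s ^ n) (Pi.mulSingle i (up γ)) := by
  have hββ : β + β = 0 := CharTwo.add_self_eq_zero β
  have hmul : ∀ a b : F0, (Pi.mulSingle i (up a) * Pi.mulSingle i (up b) :
      Fin k0 → Matrix.SpecialLinearGroup (Fin 2) F0) = Pi.mulSingle i (up (a + b)) := fun a b => by
    rw [← Pi.mulSingle_mul, up_mul]
  induction n using Int.induction_on with
  | zero =>
    refine ⟨0, Or.inl rfl, ?_⟩
    rw [zpow_zero, up_zero]
    have h1 : (Pi.mulSingle i (1 : Matrix.SpecialLinearGroup (Fin 2) F0) : Fin k0 → _) = 1 := Pi.mulSingle_one i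
    rw [h1]
    exact End.NatIdx.acts_one
  | succ n ih =>
    obtain ⟨γ, hγ, h1⟩ := ih
    have h2 := End.NatIdx.acts_mul hWP hs h1 hA
    rw [hmul] at h2
    refine ⟨γ + β, ?_, ?_⟩
    · rcases hγ with rfl | rfl
      · exact Or.inr (zero_add _)
      · exact Or.inl hββ
    · rwa [zpow_add_one]
  | pred n ih =>
    obtain ⟨γ, hγ, h1⟩ := ih
    have h2 := End.NatIdx.acts_mul hWP (inv_mem hs) h1 (End.NatIdx.acts_inv hWP hs hA)
    rw [← Pi.mulSingle_inv, up_inv, hmul] at h2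
    refine ⟨γ + -β, ?_, ?_⟩
    · rw [CharTwo.neg_eq]
      rcases hγ with rfl | rfl
      · exact Or.inr (zero_add _)
      · exact Or.inl hββ
    · rwa [zpow_sub_one]

include N in
/-- **(B2), natural modules, `4 ≤ |F₀|`.** -/
theorem b2 (h4 : 4 ≤ Nat.card F0) (hS : Syl S P) (hWP : P ≤ normalizer (W : Set G)) (hD0 : D0 = ⊥) (hZW : Z ≤ W)
    (gen : ∀ K : Subgroup G, Z ≤ K → P ≤ normalizer (K : Set G) → W ≤ K)
    {B : Subgroup G} (hB : Fr V (DM U AA) B)
    (cyc : ∀ s ∈ S, s ∈ normalizer ((⁅V, B⁆ : Subgroup G) : Set G) → ∀ s' ∈ S,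
      s' ∈ normalizer ((⁅V, B⁆ : Subgroup G) : Set G) →
      (∃ n : ℤ, ∀ x ∈ ⁅V, B⁆, s * x * s⁻¹ = s' ^ n * x * (s' ^ n)⁻¹) ∨
        ∃ n : ℤ, ∀ x ∈ ⁅V, B⁆, s' * x * s'⁻¹ = s ^ n * x * (s ^ n)⁻¹) : False := by
  have Fm := h.fam X
  have hDP : P ≤ normalizer (D0 : Set G) := by
    rw [hD0]
    intro g _
    rw [mem_normalizer_iff_cj]
    exact le_antisymm (cj_le_iff.2 bot_le) bot_le
  have hWM : W ≤ M1 V (DM U AA) := gen _ (Fm.Z_le_M1 T) (Fm.M1_norm T)
  have hmain := fun i => End.NatIdx.main N hWP hDP hS (H := P ⊓ normalizer ((⁅V, B⁆ : Subgroup G) : Set G))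
    inf_le_left (fun g hg => Fm.dec T hB hg) (fun K t => End.SLIdx.eq_top h4 K) i
  obtain ⟨i, hi⟩ := h.exists_summand X T N hD0 hWP hZW hB fun i => (hmain i).1
  -- an element of `S ∩ N` which centralises `[V, B]` is trivial on the summand
  have key : ∀ (t : G), t ∈ S → t ∈ normalizer ((⁅V, B⁆ : Subgroup G) : Set G) → ∀ γ : F0,
      ActsSL N.e W D0 t (Pi.mulSingle i (up γ)) → (∀ a ∈ ⁅V, B⁆, t * a = a * t) → γ = 0 := by
    intro t ht htc γ hA hc
    obtain ⟨w, hw, he⟩ := N.surj (Pi.single i ![0, 1])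
    have h1 := Fm.mod_KB hB (Fm.N_le_KB T hB ⟨Fm.SP ht, htc⟩) hc (hWM hw)
    have htw : t * w * t⁻¹ ∈ W := conj_mem hWP (Fm.SP ht) hw
    have h2 := hi _ (mul_mem htw (inv_mem hw)) (fun l hl => by
      rw [N.mul _ htw _ (inv_mem hw), Cfsg.Agent.Omega.NO3S.ThmB.e_inv N hw, Pi.add_apply, Pi.neg_apply,
        hA.1 w hw l, Pi.mulSingle_eq_of_ne hl, ap_one, add_neg_cancel]) h1
    have h3 : t * w * t⁻¹ = w := mul_inv_eq_one.1 h2
    have h4 := congrFun (hA.1 w hw i) 0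
    rw [h3, Pi.mulSingle_eq_same, he, Pi.single_eq_same, ap_up_0] at h4
    simpa using h4.symm
  -- two elements
  obtain ⟨β, hβ0, hβ1⟩ : ∃ β : F0, β ≠ 0 ∧ β ≠ 1 := by
    by_contra hcon
    push Not at hcon
    have : Nat.card F0 ≤ 2 := by
      have h1 : Function.Surjective (fun b : Bool => if b then (1 : F0) else 0) := fun x => by
        by_cases hx : x = 0
        · exact ⟨false, by simp [hx]⟩
        · exact ⟨true, by simp [hcon x hx]⟩
      have h2 := Nat.card_le_card_of_surjective _ h1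
      simpa using h2
    omega
  have pair : ∀ s ∈ S, s ∈ normalizer ((⁅V, B⁆ : Subgroup G) : Set G) → ∀ s' ∈ S,
      s' ∈ normalizer ((⁅V, B⁆ : Subgroup G) : Set G) → ∀ b b' : F0, ActsSL N.e W D0 s (Pi.mulSingle i (up b)) →
      ActsSL N.e W D0 s' (Pi.mulSingle i (up b')) →
      (∃ n : ℤ, ∀ x ∈ ⁅V, B⁆, s * x * s⁻¹ = s' ^ n * x * (s' ^ n)⁻¹) → b = 0 ∨ b = b' := by
    intro s hs hsc s' hs' hsc' b b' hb hb' ⟨n, hn⟩
    obtain ⟨γ, hγ, h1⟩ := zpow_acts N hWP (Fm.SP hs') hb' n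
    have hsn : s' ^ n ∈ S := zpow_mem hs' n
    have h2 := End.NatIdx.acts_mul hWP (Fm.SP hs) (End.NatIdx.acts_inv hWP (Fm.SP hsn) h1) hb
    rw [← Pi.mulSingle_inv, ← Pi.mulSingle_mul, up_inv, up_mul] at h2
    have h3 := key _ (mul_mem (inv_mem hsn) hs) (mul_mem (inv_mem (zpow_mem hsc' n)) hsc) _ h2 fun a ha => by
      have h4 := hn a ha
      calc (s' ^ n)⁻¹ * s * a = (s' ^ n)⁻¹ * (s * a * s⁻¹) * s := by group
        _ = (s' ^ n)⁻¹ * (s' ^ n * a * (s' ^ n)⁻¹) * s := by rw [h4]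
        _ = a * ((s' ^ n)⁻¹ * s) := by group
    rw [CharTwo.neg_eq] at h3
    have h4 : b = γ := (CharTwo.add_eq_zero.1 h3).symm
    rw [h4]
    rcases hγ with rfl | rfl
    · exact Or.inl rfl
    · exact Or.inr rfl
  obtain ⟨s, hs, hsN, hsA⟩ := (hmain i).2 1
  obtain ⟨s', hs', hsN', hsA'⟩ := (hmain i).2 β
  rcases cyc s hs hsN.2 s' hs' hsN'.2 with h1 | h1
  · rcases pair s hs hsN.2 s' hs' hsN'.2 1 β hsA hsA' h1 with h2 | h2
    · exact one_ne_zero h2
    · exact hβ1 h2.symm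
  · rcases pair s' hs' hsN'.2 s hs hsN.2 β 1 hsA' hsA h1 with h2 | h2
    · exact hβ0 h2
    · exact hβ1 h2

end Nb

end Cfsg.Agent.Omega.NO3S.ThmB
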