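import Cfsg.Agent.Omega.NO3S.ThmB.B2
import Cfsg.Agent.Omega.NO3S.ThmB.Cyc

/-!
# THEOREM B, (B2): `V_P` is not a sum of natural modules for a field with at least 4 elements

`Nb.cyc` : the chain property of `Cyc.lean` in the form of `B2.lean`; `Nb.noNat` : **(B2)**.
-/

set_option autoImplicit false

namespace Cfsg.Agent.Omega.NO3S.ThmB

open Subgroup Cfsg Cfsg.Agent.ZN Cfsg.Agent.ZN.ChoiceBase Cfsg.Agent.ZN.ChoiceSit
open Cfsg.Agent.Omega.FFThm Cfsg.Agent.Omega.NatPair Cfsg.Agent.Lib.SL2Mat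

universe u

variable {G : Type u} [Group G] {F : Type} [Field F] {S P' V D : Subgroup G} {k : ℕ}

/-- `s tⁿ` centralises `C`, `t` normalises `C`: `s` acts on `C` as `t⁻ⁿ`. -/
theorem act_of_chain {C : Subgroup G} {s t : G} (ht : t ∈ normalizer (C : Set G)) {n : ℕ}
    (h : ∀ x ∈ C, s * t ^ n * x = x * (s * t ^ n)) :
    ∃ n : ℤ, ∀ x ∈ C, s * x * s⁻¹ = t ^ n * x * (t ^ n)⁻¹ := by
  refine ⟨-(n : ℤ), fun x hx => ?_⟩
  have h1 : (t ^ n)⁻¹ * x * (t ^ n)⁻¹⁻¹ ∈ C :=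
    (mem_normalizer_iff.1 (inv_mem (pow_mem ht n)) x).1 hx
  have h2 := h _ h1
  rw [zpow_neg, zpow_natCast]
  calc s * x * s⁻¹ = (s * t ^ n * ((t ^ n)⁻¹ * x * (t ^ n)⁻¹⁻¹)) * (t ^ n)⁻¹ * s⁻¹ := by group
    _ = ((t ^ n)⁻¹ * x * (t ^ n)⁻¹⁻¹) * (s * t ^ n) * (t ^ n)⁻¹ * s⁻¹ := by rw [h2]
    _ = (t ^ n)⁻¹ * x * (t ^ n)⁻¹⁻¹ := by group

namespace Nb

variable {M : NatKM F S P' V D k} (h : Nb M)

include h

/-- `N_S([V, B])` acts as a cyclic group on `[V, B]`. -/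
theorem cyc [Finite F] [CharP F 2] (hS2 : IsPGroup 2 S) {U B : Subgroup G} (hB : B ≤ S) (VU : V ≤ U) {i : Fin k}
    (O : One M U B i) : ∀ s ∈ S, s ∈ normalizer ((⁅V, B⁆ : Subgroup G) : Set G) → ∀ s' ∈ S,
      s' ∈ normalizer ((⁅V, B⁆ : Subgroup G) : Set G) →
      (∃ n : ℤ, ∀ x ∈ ⁅V, B⁆, s * x * s⁻¹ = s' ^ n * x * (s' ^ n)⁻¹) ∨
        ∃ n : ℤ, ∀ x ∈ ⁅V, B⁆, s' * x * s'⁻¹ = s ^ n * x * (s ^ n)⁻¹ := by
  intro s hs hsN t ht htN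
  obtain ⟨n, h1 | h1⟩ := h.chain hS2 hB VU O hs hsN ht htN
  · exact Or.inl (act_of_chain htN h1)
  · exact Or.inr (act_of_chain hsN h1)

variable [Finite G] [Finite F] [CharP F 2] {P U L : Subgroup G} {AA : Set (Subgroup G)} (X : BSit S P P' U V L AA)
  {Z : Subgroup G} (T : TrHyp S P P' U V (DM U AA) Z)
  {F0 : Type} [Field F0] [Finite F0] [CharP F0 2] {W D0 : Subgroup G} {k0 : ℕ} (N : NatK F0 S P W D0 k0)

include X T N in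
/-- **(B2), natural modules, `4 ≤ |F₀|`: impossible.** -/
theorem noNat (hS2 : IsPGroup 2 S) (h4 : 4 ≤ Nat.card F0) (hS : Syl S P) (hWP : P ≤ normalizer (W : Set G))
    (hD0 : D0 = ⊥) (hZW : Z ≤ W) (gen : ∀ K : Subgroup G, Z ≤ K → P ≤ normalizer (K : Set G) → W ≤ K) : False := by
  obtain ⟨B, hB⟩ := X.ex
  obtain ⟨i, O⟩ := h.one X hB
  exact h.b2 X T N h4 hS hWP hD0 hZW gen hB (h.cyc hS2 (X.le B hB.1.1) X.VU O)

end Nb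

end Cfsg.Agent.Omega.NO3S.ThmB
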