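import Cfsg.Agent.ZN.ChoiceBase

/-!
# THEOREM B, abstract part

`P, P'` are subgroups over `S`, `U` is an elementary abelian group normalised by `P` and `P'`, `V ≤ U` is normalised by
`P'`; `DD` is a family of subgroups of `J ≤ S` which is invariant under `P`, and under `P'` as far as its members
centralise `V`.  A member which does not centralise `V` satisfies `U = V C_U(A)`; `J` acts on `V` in such a way that
an element which centralises `C_V(A)` acts on `V` like an element of `A`; `[V, A]` is centralised by `J`.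

* `Fam.Fr A` : `A ∈ DD` does not centralise `V`;
* `Fam.uniq` : `D` a `P`-conjugate of such an `A`; `e ∈ J` centralises `C_U(D)`: `e` acts on `U` like an element of `D`;
* `Fam.four` : if `D` centralises `V`, then `[U, D]` is centralised by all `B^h`, `Fr B`, `h ∈ K1 = ⟨B^y : y ∈ P'⟩`;
* `KK` is the group generated by these `B^h`.
-/

set_option autoImplicit false

namespace Cfsg.Agent.Omega.NO3S.ThmB

open Subgroup Cfsg Cfsg.Agent.ZN Cfsg.Agent.ZN.ChoiceBase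

universe u

variable {G : Type u} [Group G]

/-- `A` is a member of `DD` which does not centralise `V`. -/
def Fr (V : Subgroup G) (DD : Set (Subgroup G)) (A : Subgroup G) : Prop :=
  A ∈ DD ∧ ¬ A ≤ centralizer (V : Set G)

/-- The situation of THEOREM B. -/
structure Fam (S P P' U V J : Subgroup G) (DD : Set (Subgroup G)) : Prop where
  SP : S ≤ P
  SP' : S ≤ P'
  JS : J ≤ S
  JP : P ≤ normalizer (J : Set G)
  DJ : ∀ A ∈ DD, A ≤ J
  DP : ∀ A ∈ DD, ∀ g ∈ P, cj g A ∈ DD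
  DP' : ∀ A ∈ DD, A ≤ centralizer (V : Set G) → ∀ h ∈ P', cj h A ∈ DD
  U2 : IsElementaryAbelian 2 U
  UP : P ≤ normalizer (U : Set G)
  UP' : P' ≤ normalizer (U : Set G)
  VU : V ≤ U
  VP' : P' ≤ normalizer (V : Set G)
  ex : ∃ A, Fr V DD A
  full : ∀ A, Fr V DD A → ∀ u ∈ U, ∃ v ∈ V, ∃ c ∈ U, (∀ a ∈ A, a * c = c * a) ∧ u = v * c
  uq : ∀ A, Fr V DD A → ∀ e ∈ J,
    (∀ v ∈ V, (∀ a ∈ A, a * v = v * a) → e * v = v * e) → ∃ a ∈ A, ∀ v ∈ V, e * v * e⁻¹ = a * v * a⁻¹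
  cJ : ∀ A, Fr V DD A → ∀ x ∈ ⁅V, A⁆, ∀ e ∈ J, e * x = x * e

theorem elem_comm {A : Subgroup G} (hA : IsElementaryAbelian 2 A) {a b : G} (ha : a ∈ A) (hb : b ∈ A) :
    a * b = b * a := congrArg Subtype.val (hA.1.is_comm.comm ⟨a, ha⟩ ⟨b, hb⟩)

theorem conj_mem {P V : Subgroup G} (h : P ≤ normalizer (V : Set G)) {g v : G} (hg : g ∈ P) (hv : v ∈ V) :
    g * v * g⁻¹ ∈ V := (mem_normalizer_iff.1 (h hg) v).1 hv

theorem conj_mem' {P V : Subgroup G} (h : P ≤ normalizer (V : Set G)) {g v : G} (hg : g ∈ P) (hv : v ∈ V) :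
    g⁻¹ * v * g ∈ V := by
  have h1 := conj_mem h (inv_mem hg) hv
  rwa [inv_inv] at h1

theorem mem_cj_of {g x : G} {H : Subgroup G} (hx : x ∈ H) : g * x * g⁻¹ ∈ cj g H := by
  rw [mem_cj]
  have e : g⁻¹ * (g * x * g⁻¹) * g = x := by group
  rw [e]
  exact hx

theorem exists_of_mem_cj {g x : G} {H : Subgroup G} (hx : x ∈ cj g H) : ∃ y ∈ H, x = g * y * g⁻¹ :=
  ⟨g⁻¹ * x * g, mem_cj.1 hx, by group⟩

theorem cj_comm (g : G) (H K : Subgroup G) : cj g ⁅H, K⁆ = ⁅cj g H, cj g K⁆ := map_commutator _ _ _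

theorem mem_comm {H K : Subgroup G} {u a : G} (hu : u ∈ H) (ha : a ∈ K) : u * a * u⁻¹ * a⁻¹ ∈ ⁅H, K⁆ := by
  have h := commutator_mem_commutator hu ha
  rwa [commutatorElement_def] at h

theorem comm_le {H K L : Subgroup G} (h : ∀ u ∈ H, ∀ a ∈ K, u * a * u⁻¹ * a⁻¹ ∈ L) : ⁅H, K⁆ ≤ L := by
  rw [commutator_le]
  intro u hu a ha
  rw [commutatorElement_def]
  exact h u hu a ha

/-- `c` commutes with `a` iff the conjugates commute. -/
theorem comm_conj {g a c : G} (h : a * c = c * a) : (g * a * g⁻¹) * (g * c * g⁻¹) = (g * c * g⁻¹) * (g * a * g⁻¹) := by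
  have e1 : (g * a * g⁻¹) * (g * c * g⁻¹) = g * (a * c) * g⁻¹ := by group
  have e2 : (g * c * g⁻¹) * (g * a * g⁻¹) = g * (c * a) * g⁻¹ := by group
  rw [e1, e2, h]

/-- the group generated by the `P'`-conjugates of the members of `DD` which do not centralise `V` -/
def K1 (P' V : Subgroup G) (DD : Set (Subgroup G)) : Subgroup G :=
  closure {x | ∃ B, Fr V DD B ∧ ∃ y ∈ P', x ∈ cj y B}

/-- the group generated by the `K1`-conjugates of the members of `DD` which do not centralise `V` -/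
def KK (P' V : Subgroup G) (DD : Set (Subgroup G)) : Subgroup G :=
  closure {x | ∃ B, Fr V DD B ∧ ∃ y ∈ K1 P' V DD, x ∈ cj y B}

namespace Fam

variable {S P P' U V J : Subgroup G} {DD : Set (Subgroup G)} (F : Fam S P P' U V J DD)

include F

theorem comm {a b : G} (ha : a ∈ U) (hb : b ∈ U) : a * b = b * a := elem_comm F.U2 ha hb

theorem DS {A : Subgroup G} (hA : A ∈ DD) : A ≤ S := (F.DJ A hA).trans F.JS

theorem commutator_eq {A : Subgroup G} (hA : Fr V DD A) : ⁅U, A⁆ = ⁅V, A⁆ := by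
  apply le_antisymm
  · refine comm_le fun u hu a ha => ?_
    obtain ⟨v, hv, c, hc, hac, rfl⟩ := F.full A hA u hu
    have e : v * c * a * (v * c)⁻¹ * a⁻¹ = v * a * v⁻¹ * a⁻¹ := by
      have h1 := hac a ha
      calc v * c * a * (v * c)⁻¹ * a⁻¹ = v * (c * a) * c⁻¹ * v⁻¹ * a⁻¹ := by group
        _ = v * (a * c) * c⁻¹ * v⁻¹ * a⁻¹ := by rw [h1]
        _ = v * a * v⁻¹ * a⁻¹ := by group
    rw [e]
    exact mem_comm hv ha
  · exact commutator_mono F.VU le_rfl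

theorem K1_le : K1 P' V DD ≤ P' := by
  rw [K1, closure_le]
  rintro x ⟨B, hB, y, hy, hx⟩
  obtain ⟨b, hb, rfl⟩ := exists_of_mem_cj hx
  exact mul_mem (mul_mem hy (F.SP' (F.DS hB.1 hb))) (inv_mem hy)

theorem K1_act {h : G} (hh : h ∈ K1 P' V DD) : ∀ u ∈ U, h * u * h⁻¹ * u⁻¹ ∈ V := by
  have hP := F.K1_le
  induction hh using closure_induction with
  | mem x hx =>
    obtain ⟨B, hB, y, hy, hx⟩ := hx
    obtain ⟨b, hb, rfl⟩ := exists_of_mem_cj hx
    intro u hu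
    obtain ⟨v, hv, c, hc, hbc, e⟩ := F.full B hB _ (conj_mem' F.UP' hy hu)
    have hbP : b ∈ P' := F.SP' (F.DS hB.1 hb)
    have h1 : b * (v * c) * b⁻¹ * (v * c)⁻¹ ∈ V := by
      have e1 : b * (v * c) * b⁻¹ * (v * c)⁻¹ = (b * v * b⁻¹) * v⁻¹ := by
        calc b * (v * c) * b⁻¹ * (v * c)⁻¹ = b * v * (c * b⁻¹) * c⁻¹ * v⁻¹ := by group
          _ = b * v * (b⁻¹ * (b * c) * b⁻¹) * c⁻¹ * v⁻¹ := by group
          _ = b * v * (b⁻¹ * (c * b) * b⁻¹) * c⁻¹ * v⁻¹ := by rw [hbc b hb]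
          _ = (b * v * b⁻¹) * v⁻¹ := by group
      rw [e1]
      exact mul_mem (conj_mem F.VP' hbP hv) (inv_mem hv)
    rw [← e] at h1
    have h2 := conj_mem F.VP' hy h1
    have e2 : y * (b * (y⁻¹ * u * y) * b⁻¹ * (y⁻¹ * u * y)⁻¹) * y⁻¹ =
        y * b * y⁻¹ * u * (y * b * y⁻¹)⁻¹ * u⁻¹ := by group
    rwa [e2] at h2
  | one => intro u _; simp
  | mul x y hx hy ihx ihy =>
    intro u hu
    have hyP := hP hy
    have hxP := hP hx
    have h1 := conj_mem F.VP' hxP (ihy u hu)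
    have h2 := ihx u hu
    have e : x * y * u * (x * y)⁻¹ * u⁻¹ = x * (y * u * y⁻¹ * u⁻¹) * x⁻¹ * (x * u * x⁻¹ * u⁻¹) := by group
    rw [e]
    exact mul_mem h1 h2
  | inv x hx ih =>
    intro u hu
    have e2 : x⁻¹ * u * x⁻¹⁻¹ * u⁻¹ = (x * (x⁻¹ * u * x) * x⁻¹ * (x⁻¹ * u * x)⁻¹)⁻¹ := by group
    rw [e2]
    exact inv_mem (ih _ (conj_mem' F.UP' (hP hx) hu))

/-- (3) -/
theorem uniq {A : Subgroup G} (hA : Fr V DD A) {g : G} (hg : g ∈ P) {e : G} (he : e ∈ J)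
    (hc : ∀ u ∈ U, (∀ a ∈ cj g A, a * u = u * a) → e * u = u * e) :
    ∃ a ∈ cj g A, ∀ u ∈ U, e * u * e⁻¹ = a * u * a⁻¹ := by
  -- `e' = e^g` centralises `C_U(A)`
  have he' : g⁻¹ * e * g ∈ J := conj_mem' F.JP hg he
  have hc' : ∀ u ∈ U, (∀ a ∈ A, a * u = u * a) → (g⁻¹ * e * g) * u = u * (g⁻¹ * e * g) := by
    intro u hu hau
    have h1 := hc (g * u * g⁻¹) (conj_mem F.UP hg hu) fun a ha => by
      obtain ⟨b, hb, rfl⟩ := exists_of_mem_cj ha
      exact comm_conj (hau b hb)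
    have h2 := comm_conj (g := g⁻¹) h1
    have e1 : g⁻¹ * (g * u * g⁻¹) * g⁻¹⁻¹ = u := by group
    have e2 : g⁻¹ * e * g⁻¹⁻¹ = g⁻¹ * e * g := by group
    rwa [e1, e2] at h2
  obtain ⟨a, ha, hav⟩ := F.uq A hA _ he' fun v hv h => hc' v (F.VU hv) h
  refine ⟨g * a * g⁻¹, mem_cj_of ha, fun u hu => ?_⟩
  obtain ⟨v, hv, c, hcU, hac, huv⟩ := F.full A hA _ (conj_mem' F.UP hg hu)
  have h1 := hav v hv
  have h2 := hc' c hcU hac
  have h3 : (g⁻¹ * e * g) * (v * c) * (g⁻¹ * e * g)⁻¹ = a * (v * c) * a⁻¹ := by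
    have e1 : ∀ x : G, x * c = c * x → x * (v * c) * x⁻¹ = (x * v * x⁻¹) * c := by
      intro x hx
      calc x * (v * c) * x⁻¹ = x * v * (c * x⁻¹) := by group
        _ = x * v * (x⁻¹ * (x * c) * x⁻¹) := by group
        _ = x * v * (x⁻¹ * (c * x) * x⁻¹) := by rw [hx]
        _ = (x * v * x⁻¹) * c := by group
    rw [e1 _ h2, e1 _ (hac a ha), h1]
  rw [← huv] at h3
  have h4 := congrArg (fun t => g * t * g⁻¹) h3
  have e3 : g * (g⁻¹ * e * g * (g⁻¹ * u * g) * (g⁻¹ * e * g)⁻¹) * g⁻¹ = e * u * e⁻¹ := by group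
  have e4 : g * (a * (g⁻¹ * u * g) * a⁻¹) * g⁻¹ = g * a * g⁻¹ * u * (g * a * g⁻¹)⁻¹ := by group
  simp only [e3, e4] at h4
  exact h4

theorem cJU {A : Subgroup G} (hA : Fr V DD A) {g : G} (hg : g ∈ P) {x : G} (hx : x ∈ ⁅U, cj g A⁆) {e : G}
    (he : e ∈ J) : e * x = x * e := by
  have h1 : ⁅U, cj g A⁆ = cj g ⁅V, A⁆ := by
    rw [← F.commutator_eq hA, cj_comm, cj_eq_of_mem_normalizer (F.UP hg)]
  rw [h1] at hx
  obtain ⟨y, hy, rfl⟩ := exists_of_mem_cj hx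
  have h2 := comm_conj (g := g) (F.cJ A hA y hy _ (conj_mem' F.JP hg he))
  have e1 : g * (g⁻¹ * e * g) * g⁻¹ = e := by group
  rwa [e1] at h2

/-- `[U, D]` is `K1`-invariant if `D` centralises `V`. -/
theorem K1_inv {A : Subgroup G} (hA : Fr V DD A) {g : G} (hg : g ∈ P)
    (hV : cj g A ≤ centralizer (V : Set G)) {h : G} (hh : h ∈ K1 P' V DD) {x : G} (hx : x ∈ ⁅U, cj g A⁆) :
    h * x * h⁻¹ ∈ ⁅U, cj g A⁆ := by
  have hhP : h ∈ P' := F.K1_le hh
  have hle : cj h ⁅U, cj g A⁆ ≤ ⁅U, cj g A⁆ := by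
    rw [cj_comm, cj_eq_of_mem_normalizer (F.UP' hhP)]
    refine comm_le fun u hu e he => ?_
    have heJ : e ∈ J := F.DJ _ (F.DP' _ (F.DP A hA.1 g hg) hV h hhP) he
    obtain ⟨a, ha, hau⟩ := F.uniq hA hg heJ (fun w hw haw => by
      -- `w` centralised by `A^g`: so `w^(h⁻¹)` is, and `e` centralises `w`
      obtain ⟨b, hb, rfl⟩ := exists_of_mem_cj he
      have h1 := F.K1_act (inv_mem hh) w hw
      rw [inv_inv] at h1
      have h2 : b * (h⁻¹ * w * h * w⁻¹) = (h⁻¹ * w * h * w⁻¹) * b :=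
        ((mem_centralizer_iff.1 (hV hb)) _ h1).symm
      have h3 : b * w = w * b := haw b hb
      have h4 : b * (h⁻¹ * w * h) = (h⁻¹ * w * h) * b := by
        calc b * (h⁻¹ * w * h) = b * (h⁻¹ * w * h * w⁻¹) * w := by group
          _ = (h⁻¹ * w * h * w⁻¹) * (b * w) := by rw [h2]; group
          _ = (h⁻¹ * w * h * w⁻¹) * (w * b) := by rw [h3]
          _ = (h⁻¹ * w * h) * b := by group
      have h5 := comm_conj (g := h) h4
      have e1 : h * (h⁻¹ * w * h) * h⁻¹ = w := by group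
      rwa [e1] at h5)
    have h6 := hau u hu
    have e2 : u * e * u⁻¹ * e⁻¹ = u * a * u⁻¹ * a⁻¹ := by
      have h7 : e * u⁻¹ * e⁻¹ = a * u⁻¹ * a⁻¹ := by
        have e3 : e * u⁻¹ * e⁻¹ = (e * u * e⁻¹)⁻¹ := by group
        have e4 : a * u⁻¹ * a⁻¹ = (a * u * a⁻¹)⁻¹ := by group
        rw [e3, e4, h6]
      calc u * e * u⁻¹ * e⁻¹ = u * (e * u⁻¹ * e⁻¹) := by group
        _ = u * (a * u⁻¹ * a⁻¹) := by rw [h7]
        _ = u * a * u⁻¹ * a⁻¹ := by group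
    rw [e2]
    exact mem_comm hu ha
  exact hle (mem_cj_of hx)

/-- (4) -/
theorem four {A : Subgroup G} (hA : Fr V DD A) {g : G} (hg : g ∈ P)
    (hV : cj g A ≤ centralizer (V : Set G)) {x : G} (hx : x ∈ ⁅U, cj g A⁆) {k : G} (hk : k ∈ KK P' V DD) :
    k * x = x * k := by
  induction hk using closure_induction with
  | mem k hk =>
    obtain ⟨B, hB, h, hh, hk⟩ := hk
    obtain ⟨b, hb, rfl⟩ := exists_of_mem_cj hk
    have h1 := F.K1_inv hA hg hV (inv_mem hh) hx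
    have h2 := F.cJU hA hg h1 (F.DJ B hB.1 hb)
    have h3 := comm_conj (g := h) h2
    have e1 : h * (h⁻¹ * x * h⁻¹⁻¹) * h⁻¹ = x := by group
    rwa [e1] at h3
  | one => simp
  | mul a b _ _ iha ihb => rw [mul_assoc, ihb, ← mul_assoc, iha, mul_assoc]
  | inv a _ iha =>
    calc a⁻¹ * x = a⁻¹ * (x * a) * a⁻¹ := by group
      _ = a⁻¹ * (a * x) * a⁻¹ := by rw [iha]
      _ = x * a⁻¹ := by group

end Fam

end Cfsg.Agent.Omega.NO3S.ThmB
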