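import Cfsg.Agent.Omega.NO3S.ThmB.Fam

/-!
# THEOREM B, (6): a fixed point of `P`

`W` = the set of nontrivial elements of the groups `[V, B]`, `B ∈ DD` not centralising `V`.  If the product of the
elements of `W` is not centralised by `KK`, then `C_U(P) ≠ 1`: the product of the nontrivial
elements of the groups `[U, B^g]`, `g ∈ P`, is `P`-invariant and not `1`.
-/

set_option autoImplicit false

namespace Cfsg.Agent.Omega.NO3S.ThmB

open Subgroup Cfsg Cfsg.Agent.ZN Cfsg.Agent.ZN.ChoiceBase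

universe u

variable {G : Type u} [Group G]

/-- the nontrivial elements of the groups `[V, B]` -/
def WW (V : Subgroup G) (DD : Set (Subgroup G)) : Set G := {x | x ≠ 1 ∧ ∃ B, Fr V DD B ∧ x ∈ ⁅V, B⁆}

/-- the nontrivial elements of the groups `[U, B^g]`, `g ∈ P` -/
def WP (P U V : Subgroup G) (DD : Set (Subgroup G)) : Set G :=
  {x | x ≠ 1 ∧ ∃ B, Fr V DD B ∧ ∃ g ∈ P, x ∈ ⁅U, cj g B⁆}

namespace Fam

variable {S P P' U V J : Subgroup G} {DD : Set (Subgroup G)} (F : Fam S P P' U V J DD)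

include F

theorem WP_sub {x : G} (hx : x ∈ WP P U V DD) : x ∈ U := by
  obtain ⟨-, B, hB, g, hg, hx⟩ := hx
  have h1 : ⁅U, cj g B⁆ ≤ U := comm_le fun u hu a ha => by
    obtain ⟨b, hb, rfl⟩ := exists_of_mem_cj ha
    have hbP : g * b * g⁻¹ ∈ P := mul_mem (mul_mem hg (F.SP (F.DS hB.1 hb))) (inv_mem hg)
    have h2 := mul_mem hu (conj_mem F.UP hbP (inv_mem hu))
    have e : u * (g * b * g⁻¹ * u⁻¹ * (g * b * g⁻¹)⁻¹) = u * (g * b * g⁻¹) * u⁻¹ * (g * b * g⁻¹)⁻¹ := by group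
    rwa [e] at h2
  exact h1 hx

theorem WP_conj {x g : G} (hx : x ∈ WP P U V DD) (hg : g ∈ P) : g * x * g⁻¹ ∈ WP P U V DD := by
  obtain ⟨hx1, B, hB, h, hh, hx⟩ := hx
  refine ⟨fun h0 => hx1 ?_, B, hB, g * h, mul_mem hg hh, ?_⟩
  · have e : x = g⁻¹ * (g * x * g⁻¹) * g := by group
    rw [e, h0]; group
  · have h1 := mem_cj_of (g := g) hx
    rwa [cj_comm, cj_cj, cj_eq_of_mem_normalizer (F.UP hg)] at h1

theorem WP_cases {x : G} (hx : x ∈ WP P U V DD) : x ∈ WW V DD ∨ ∀ k ∈ KK P' V DD, k * x = x * k := by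
  obtain ⟨hx1, B, hB, g, hg, hx⟩ := hx
  by_cases hV : cj g B ≤ centralizer (V : Set G)
  · exact Or.inr fun k hk => F.four hB hg hV hx hk
  · have hF : Fr V DD (cj g B) := ⟨F.DP B hB.1 g hg, hV⟩
    rw [F.commutator_eq hF] at hx
    exact Or.inl ⟨hx1, _, hF, hx⟩

theorem WW_sub {x : G} (hx : x ∈ WW V DD) : x ∈ WP P U V DD := by
  obtain ⟨hx1, B, hB, hx⟩ := hx
  refine ⟨hx1, B, hB, 1, one_mem _, ?_⟩
  rw [cj_one, F.commutator_eq hB]
  exact hx

theorem WW_V {x : G} (hx : x ∈ WW V DD) : x ∈ V := by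
  obtain ⟨-, B, hB, hx⟩ := hx
  have h1 : ⁅V, B⁆ ≤ V := comm_le fun u hu b hb => by
    have h2 := mul_mem hu (conj_mem F.VP' (F.SP' (F.DS hB.1 hb)) (inv_mem hu))
    have e : u * (b * u⁻¹ * b⁻¹) = u * b * u⁻¹ * b⁻¹ := by group
    rwa [e] at h2
  exact h1 hx

open Classical in
/-- **(6)**: `C_U(P) ≠ 1`. -/
theorem exists_fix [Fintype G] {M : Type*} [AddCommGroup M] (f : G → M) (hf : ∀ v ∈ V, ∀ w ∈ V, f (v * w) = f v + f w)
    (hk : ∀ v ∈ V, (∀ k ∈ KK P' V DD, k * v = v * k) → f v = 0)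
    (n2 : ∑ x ∈ Finset.univ.filter (fun x => x ∈ WW V DD), f x ≠ 0) :
    ∃ z ∈ U, z ≠ 1 ∧ ∀ g ∈ P, g * z = z * g := by
  let _ : CommGroup U := { (inferInstance : Group U) with
    mul_comm := fun a b => Subtype.ext (F.comm a.2 b.2) }
  let A : Finset U := Finset.univ.filter fun x => (x : G) ∈ WP P U V DD
  let z : U := ∏ x ∈ A, x
  -- invariance
  have hinv : ∀ g ∈ P, g * (z : G) * g⁻¹ = z := by
    intro g hg
    let φ : U →* U :=
      { toFun := fun x => ⟨g * x * g⁻¹, conj_mem F.UP hg x.2⟩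
        map_one' := Subtype.ext (by simp)
        map_mul' := fun x y => Subtype.ext (by
          change g * ((x : G) * y) * g⁻¹ = g * x * g⁻¹ * (g * y * g⁻¹)
          group) }
    have h1 : φ z = z := by
      have h2 : φ z = ∏ x ∈ A, φ x := map_prod φ _ _
      rw [h2]
      refine Finset.prod_bij (fun x _ => φ x) (fun x hx => ?_) (fun x _ y _ hxy => ?_) (fun y hy => ?_)
        (fun x _ => rfl)
      · have h3 : (x : G) ∈ WP P U V DD := (Finset.mem_filter.1 hx).2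
        exact Finset.mem_filter.2 ⟨Finset.mem_univ _, F.WP_conj h3 hg⟩
      · have h3 : g * (x : G) * g⁻¹ = g * y * g⁻¹ := congrArg Subtype.val hxy
        exact Subtype.ext (mul_left_cancel (mul_right_cancel h3))
      · have h3 : (y : G) ∈ WP P U V DD := (Finset.mem_filter.1 hy).2
        have h4 := F.WP_conj h3 (inv_mem hg)
        refine ⟨⟨g⁻¹ * y * g⁻¹⁻¹, F.WP_sub h4⟩, Finset.mem_filter.2 ⟨Finset.mem_univ _, h4⟩, ?_⟩
        refine Subtype.ext ?_
        change g * (g⁻¹ * (y : G) * g⁻¹⁻¹) * g⁻¹ = y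
        group
    exact congrArg Subtype.val h1
  refine ⟨z, z.2, fun hz1 => ?_, fun g hg => ?_⟩
  swap
  · have h1 := hinv g hg
    calc g * (z : G) = (g * z * g⁻¹) * g := by group
      _ = z * g := by rw [h1]
  -- split the product
  let A1 : Finset U := A.filter fun x => (x : G) ∈ WW V DD
  let A2 : Finset U := A.filter fun x => ¬ (x : G) ∈ WW V DD
  let z1 : U := ∏ x ∈ A1, x
  let z2 : U := ∏ x ∈ A2, x
  have hsplit : z = z1 * z2 := (Finset.prod_filter_mul_prod_filter_not _ _ _).symm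
  -- the subgroup of `U` centralised by `KK`
  let C : Subgroup U := (centralizer ((KK P' V DD : Subgroup G) : Set G)).subgroupOf U
  have hC : ∀ x : U, x ∈ C ↔ ∀ k ∈ KK P' V DD, k * (x : G) = x * k := fun x => by
    change (x : G) ∈ centralizer _ ↔ _
    rw [mem_centralizer_iff]
    rfl
  have h2 : z2 ∈ C := by
    refine Subgroup.prod_mem _ fun x hx => ?_
    have h3 := (Finset.mem_filter.1 hx).2
    have h4 : (x : G) ∈ WP P U V DD := (Finset.mem_filter.1 (Finset.mem_filter.1 hx).1).2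
    rcases F.WP_cases h4 with h5 | h5
    · exact absurd h5 h3
    · exact (hC x).2 h5
  have hz : z = 1 := Subtype.ext hz1
  have h3 : z1 ∈ C := by
    have h4 : z1 = z2⁻¹ := by rw [hz] at hsplit; exact eq_inv_of_mul_eq_one_left hsplit.symm
    rw [h4]
    exact inv_mem h2
  -- apply `f`
  apply n2
  have h5 : ∀ B : Finset U, (∀ x ∈ B, (x : G) ∈ V) →
      ((∏ x ∈ B, x : U) : G) ∈ V ∧ f ((∏ x ∈ B, x : U) : G) = ∑ x ∈ B, f (x : G) := by
    intro B
    induction B using Finset.induction_on with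
    | empty =>
      intro _
      refine ⟨one_mem _, ?_⟩
      rw [Finset.prod_empty, Finset.sum_empty]
      have h6 := hf 1 (one_mem _) 1 (one_mem _)
      rw [mul_one] at h6
      exact left_eq_add.1 h6
    | insert a B ha ih =>
      intro hB
      have h6 := ih fun x hx => hB x (Finset.mem_insert_of_mem hx)
      have h7 := hB a (Finset.mem_insert_self _ _)
      rw [Finset.prod_insert ha, Finset.sum_insert ha]
      refine ⟨mul_mem h7 h6.1, ?_⟩
      rw [← h6.2]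
      exact hf _ h7 _ h6.1
  have h6 := h5 A1 fun x hx => F.WW_V (Finset.mem_filter.1 hx).2
  have h7 := hk _ h6.1 ((hC _).1 h3)
  rw [h6.2] at h7
  rw [← h7]
  symm
  refine Finset.sum_bij (fun x _ => (x : G)) (fun x hx => ?_) (fun x _ y _ hxy => Subtype.ext hxy) (fun y hy => ?_)
    (fun x _ => rfl)
  · exact Finset.mem_filter.2 ⟨Finset.mem_univ _, (Finset.mem_filter.1 hx).2⟩
  · have h8 := (Finset.mem_filter.1 hy).2
    have h9 := F.WW_sub h8
    exact ⟨⟨y, F.WP_sub h9⟩, Finset.mem_filter.2 ⟨Finset.mem_filter.2 ⟨Finset.mem_univ _, h9⟩, h8⟩, rfl⟩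

end Fam

end Cfsg.Agent.Omega.NO3S.ThmB
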