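import Cfsg.Agent.Omega.NO3S.ThmB.NatA

/-!
# THEOREM B: natural modules for `P'`, the fields of `Fam` and `TrHyp`

* `Nb.fam` : `Fam`;
* `Nb.commutator` : the elements of `[V, A]`;
* `Nb.hk` : an element of `V` which is centralised by `KK` is in `D`;
* `Nb.orb`, `Nb.n0`, `Nb.mv` : fields of `TrHyp`;
* `Nb.fix` : **(B1)** for `|F| = 2`.
-/

set_option autoImplicit false

namespace Cfsg.Agent.Omega.NO3S.ThmB

open Subgroup Cfsg Cfsg.Agent.ZN Cfsg.Agent.ZN.ChoiceBase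
open Cfsg.Agent.Omega.FFThm Cfsg.Agent.Omega.NatPair Cfsg.Agent.Lib.SL2Mat

universe u

variable {G : Type u} [Group G] {F : Type} [Field F] {S P' V D : Subgroup G} {k : ℕ}

namespace Nb

variable {M : NatKM F S P' V D k} (h : Nb M)

include h

/-- the elements of `P'` which act as upper unitriangular families -/
def upG : Subgroup G where
  carrier := {g | g ∈ P' ∧ ∃ b : Fin k → F, ActsSL M.e V D g fun i => up (b i)}
  mul_mem' := by
    rintro a b ⟨ha, x, hx⟩ ⟨hb, y, hy⟩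
    refine ⟨mul_mem ha hb, x + y, ?_⟩
    have h1 := h.acts_mul hb hx hy
    have e : ((fun i => up (x i)) * fun i => up (y i)) = fun i => up ((x + y) i) := by
      funext l
      rw [Pi.mul_apply, up_mul, Pi.add_apply]
    rwa [e] at h1
  one_mem' := by
    refine ⟨one_mem _, 0, ?_⟩
    have e : (fun i => up ((0 : Fin k → F) i)) = (1 : Fin k → Matrix.SpecialLinearGroup (Fin 2) F) := by
      funext l
      rw [Pi.zero_apply, up_zero]
      rfl
    rw [e]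
    exact acts_one
  inv_mem' := by
    rintro a ⟨ha, x, hx⟩
    refine ⟨inv_mem ha, -x, ?_⟩
    have h1 := h.acts_inv ha hx
    have e : (fun i => up (x i))⁻¹ = fun i => up ((-x) i) := by
      funext l
      rw [Pi.inv_apply, up_inv, Pi.neg_apply]
    rwa [e] at h1

theorem upact [Finite G] {P U L : Subgroup G} {AA : Set (Subgroup G)} (X : BSit S P P' U V L AA) {g : G}
    (hg : g ∈ sSup AA) : g ∈ P' ∧ ∃ b : Fin k → F, ActsSL M.e V D g fun i => up (b i) := by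
  have h1 : sSup AA ≤ h.upG := by
    refine sSup_le fun A hA => ?_
    intro a ha
    refine ⟨h.SP' (X.le A hA ha), ?_⟩
    by_cases hc : A ≤ centralizer (V : Set G)
    · refine ⟨0, fun v hv i => ?_, fun d hd => (mem_centralizer_iff.1 (hc ha) d (h.DV hd)).symm⟩
      have e : a * v * a⁻¹ = v := by
        rw [← mem_centralizer_iff.1 (hc ha) v hv]
        group
      rw [e]
      simp only [Pi.zero_apply, up_zero, ap_one]
    · obtain ⟨I, hI1, -⟩ := M.offM A (X.le A hA) (X.toBFam.offM X.U2 X.VU hA hc)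
      obtain ⟨b, -, hb⟩ := hI1 a ha
      exact ⟨b, hb⟩
  exact h1 hg

omit h in
theorem sg_up (i : Fin k) (b : Fin k → F) (hb : ∀ l, l ≠ i → b l = 0) : (fun l => up (b l)) = sg i (up (b i)) :=
  eq_sg (A := fun l => up (b l)) fun l hl => by simp only [hb l hl, up_zero]

omit h in
/-- the `i`-th part of the commutator -/
theorem one_comm_elem {U A : Subgroup G} {i : Fin k} (O : One M U A i) (VU : V ≤ U) {v a : G} (hv : v ∈ V)
    (ha : a ∈ A) : ∃ w ∈ V, (∀ l, l ≠ i → M.e w l = 0) ∧ M.e w i 1 = M.e v i 1 ∧ a * v * a⁻¹ * v⁻¹ = a * w * a⁻¹ * w⁻¹ := by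
  obtain ⟨w, hw, hwl, c, hc, hca, e⟩ := O.full v (VU hv)
  have hcV : c ∈ V := by
    have h1 : c = w⁻¹ * v := by rw [e]; group
    rw [h1]
    exact mul_mem (inv_mem hw) hv
  have h0 : M.e c i 1 = 0 := (O.cen c hcV).1 hca
  refine ⟨w, hw, hwl, ?_, ?_⟩
  · have h1 := congrFun (congrFun (M.mul _ hw _ hcV) i) 1
    rw [← e, Pi.add_apply, Pi.add_apply, h0, add_zero] at h1
    exact h1.symm
  · have h1 := hca a ha
    calc a * v * a⁻¹ * v⁻¹ = a * w * (c * a⁻¹ * c⁻¹) * w⁻¹ := by rw [e]; group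
      _ = a * w * a⁻¹ * w⁻¹ := by
        have h2 : c * a⁻¹ * c⁻¹ = a⁻¹ := by
          calc c * a⁻¹ * c⁻¹ = a⁻¹ * (a * c) * a⁻¹ * c⁻¹ := by group
            _ = a⁻¹ * (c * a) * a⁻¹ * c⁻¹ := by rw [h1]
            _ = a⁻¹ := by group
        rw [h2]

/-- an upper unitriangular element centralises `[v, a]` -/
theorem up_cen {U A : Subgroup G} (hA : A ≤ S) {i : Fin k} (O : One M U A i) (VU : V ≤ U) {g : G} (hg : g ∈ P')
    {b : Fin k → F} (hb : ActsSL M.e V D g fun l => up (b l)) {v a : G} (hv : v ∈ V) (ha : a ∈ A) :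
    g * (a * v * a⁻¹ * v⁻¹) = (a * v * a⁻¹ * v⁻¹) * g := by
  obtain ⟨w, hw, hwl, -, e⟩ := one_comm_elem O VU hv ha
  rw [e]
  obtain ⟨β, hβ⟩ := O.act a ha
  have haP := h.SP' (hA ha)
  have e1 : sg i (up β) = fun l => up ((Function.update (0 : Fin k → F) i β) l) := by
    have := sg_up i (Function.update (0 : Fin k → F) i β) fun l hl => by rw [Function.update_of_ne hl]; rfl
    rw [this, Function.update_self]
  have h1 : g * (a * w * a⁻¹) * g⁻¹ = a * (g * w * g⁻¹) * a⁻¹ := by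
    refine h.swap hg haP hb hβ ?_ hw
    rw [e1]
    exact h.up_comm _ _
  -- `g w g⁻¹ w⁻¹` is centralised by `a`
  have hm : g * w * g⁻¹ * w⁻¹ ∈ V := mul_mem (h.memV hg hw) (inv_mem hw)
  have h2 : a * (g * w * g⁻¹ * w⁻¹) = (g * w * g⁻¹ * w⁻¹) * a := by
    refine (O.cen _ hm).2 ?_ a ha
    rw [h.e_div (h.memV hg hw) hw, Pi.add_apply, Pi.add_apply, hb.1 w hw i, ap_up_1]
    have h3 := h.sq hw
    have h4 := M.mul w hw w hw
    rw [h3, e_one] at h4
    exact (congrFun (congrFun h4 i) 1).symm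
  have h3 : g * (a * w * a⁻¹ * w⁻¹) * g⁻¹ = a * w * a⁻¹ * w⁻¹ := by
    calc g * (a * w * a⁻¹ * w⁻¹) * g⁻¹ = (g * (a * w * a⁻¹) * g⁻¹) * (g * w * g⁻¹)⁻¹ := by group
      _ = a * (g * w * g⁻¹) * a⁻¹ * (g * w * g⁻¹)⁻¹ := by rw [h1]
      _ = (a * (g * w * g⁻¹ * w⁻¹)) * w * a⁻¹ * (g * w * g⁻¹)⁻¹ := by group
      _ = (g * w * g⁻¹ * w⁻¹) * (a * w * a⁻¹) * (g * w * g⁻¹)⁻¹ := by rw [h2]; group
      _ = (a * w * a⁻¹) * (g * w * g⁻¹ * w⁻¹) * (g * w * g⁻¹)⁻¹ := by rw [h.cm hm (h.memV haP hw)]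
      _ = (a * w * a⁻¹) * ((g * w * g⁻¹) * w⁻¹ * (g * w * g⁻¹)⁻¹) := by group
      _ = (a * w * a⁻¹) * (w⁻¹ * (g * w * g⁻¹) * (g * w * g⁻¹)⁻¹) := by rw [h.cm (h.memV hg hw) (inv_mem hw)]
      _ = _ := by group
  exact mul_inv_eq_iff_eq_mul.1 h3

theorem up_cen_comm {U A : Subgroup G} (hA : A ≤ S) {i : Fin k} (O : One M U A i) (VU : V ≤ U) {g : G} (hg : g ∈ P')
    {b : Fin k → F} (hb : ActsSL M.e V D g fun l => up (b l)) {x : G} (hx : x ∈ ⁅V, A⁆) : g * x = x * g := by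
  have h1 : ⁅V, A⁆ ≤ centralizer ({g} : Set G) := comm_le fun v hv a ha => by
    rw [mem_centralizer_iff]
    intro y hy
    rw [Set.mem_singleton_iff] at hy
    rw [hy]
    have h2 := h.up_cen hA O VU hg hb hv ha
    have e : v * a * v⁻¹ * a⁻¹ = (a * v * a⁻¹ * v⁻¹)⁻¹ := by group
    rw [e]
    exact ((show Commute g _ from h2).inv_right)
  exact mem_centralizer_iff.1 (h1 hx) g rfl

/-- **the family of `THEOREM B`** -/
theorem fam [Finite G] [Finite F] [CharP F 2] {P U L : Subgroup G} {AA : Set (Subgroup G)}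
    (X : BSit S P P' U V L AA) : Fam S P P' U V (sSup AA) (DM U AA) := by
  refine X.fam (fun A hA u hu => ?_) (fun A hA g hg hc => ?_) (fun A hA x hx g hg => ?_)
  · obtain ⟨i, O⟩ := h.one X hA
    obtain ⟨v, hv, -, c, hc, hca, e⟩ := O.full u hu
    exact ⟨v, hv, c, hc, hca, e⟩
  · obtain ⟨i, O⟩ := h.one X hA
    obtain ⟨hgP, b, hb⟩ := h.upact X hg
    have hb0 : ∀ l, l ≠ i → b l = 0 := fun l hl => by
      obtain ⟨w, hw, hwl, hwj⟩ := exists_single M l ![0, 1]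
      have h1 : g * w = w * g := by
        refine hc w hw ((O.cen w hw).2 ?_)
        rw [hwj i (Ne.symm hl)]
        rfl
      have h2 := h.up_entry hb hw hwl
      have h3 : g * w * g⁻¹ = w := by rw [h1]; group
      rw [h3, hwl] at h2
      exact h2.symm
    obtain ⟨a, ha, hab⟩ := O.all (b i)
    refine ⟨a, ha, fun v hv => ?_⟩
    rw [sg_up i b hb0] at hb
    exact h.same hgP (h.SP' (X.le A hA.1.1 ha)) hb hab hv
  · obtain ⟨i, O⟩ := h.one X hA
    obtain ⟨hgP, b, hb⟩ := h.upact X hg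
    exact h.up_cen_comm (X.le A hA.1.1) O X.VU hgP hb hx

/-! ### `[V, A]` -/

theorem e_comm {A : Subgroup G} (hA : A ≤ S) {i : Fin k} {U : Subgroup G} (O : One M U A i) {x : G} (hx : x ∈ ⁅V, A⁆) :
    x ∈ V ∧ (∀ l, l ≠ i → M.e x l = 0) ∧ M.e x i 1 = 0 := by
  let K : Subgroup G :=
    { carrier := {x | x ∈ V ∧ (∀ l, l ≠ i → M.e x l = 0) ∧ M.e x i 1 = 0}
      mul_mem' := by
        rintro a b ⟨ha, ha1, ha2⟩ ⟨hb, hb1, hb2⟩
        refine ⟨mul_mem ha hb, fun l hl => ?_, ?_⟩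
        · rw [M.mul a ha b hb, Pi.add_apply, ha1 l hl, hb1 l hl, add_zero]
        · rw [M.mul a ha b hb, Pi.add_apply, Pi.add_apply, ha2, hb2, add_zero]
      one_mem' := ⟨one_mem _, fun l _ => by rw [e_one]; rfl, by rw [e_one]; rfl⟩
      inv_mem' := by
        rintro a ⟨ha, ha1, ha2⟩
        refine ⟨inv_mem ha, fun l hl => ?_, ?_⟩
        · rw [h.e_inv ha, ha1 l hl]
        · rw [h.e_inv ha, ha2] }
  have h1 : ⁅V, A⁆ ≤ K := comm_le fun v hv a ha => by
    obtain ⟨β, hβ⟩ := O.act a ha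
    have e : v * a * v⁻¹ * a⁻¹ = (a * v * a⁻¹ * v⁻¹)⁻¹ := by group
    rw [e]
    refine inv_mem (show a * v * a⁻¹ * v⁻¹ ∈ K from ?_)
    have hm := h.memV (h.SP' (hA ha)) hv
    have hs : M.e v + M.e v = 0 := by rw [← M.mul v hv v hv, h.sq hv, e_one]
    refine ⟨mul_mem hm (inv_mem hv), fun l hl => ?_, ?_⟩
    · rw [h.e_div hm hv, Pi.add_apply, hβ.1 v hv l, sg_ne hl, ap_one]
      exact congrFun hs l
    · rw [h.e_div hm hv, Pi.add_apply, Pi.add_apply, hβ.1 v hv i, sg_self, ap_up_1]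
      exact congrFun (congrFun hs i) 1
  exact h1 hx

/-- an element of `[V, A]` with a given entry -/
theorem exists_comm [CharP F 2] {A : Subgroup G} (hA : A ≤ S) {i : Fin k} {U : Subgroup G} (O : One M U A i) (β : F) :
    ∃ x ∈ ⁅V, A⁆, M.e x i 0 = β := by
  obtain ⟨w, hw, hwi, -⟩ := exists_single M i ![0, 1]
  obtain ⟨a, ha, hab⟩ := O.all β
  refine ⟨a * w * a⁻¹ * w⁻¹, ?_, ?_⟩
  · have h1 := mem_comm hw ha
    have e : a * w * a⁻¹ * w⁻¹ = (w * a * w⁻¹ * a⁻¹)⁻¹ := by group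
    rw [e]
    exact inv_mem h1
  · rw [h.e_div (h.memV (h.SP' (hA ha)) hw) hw, Pi.add_apply, Pi.add_apply, hab.1 w hw i, sg_self, hwi, ap_up_0]
    simp

/-- the index of a conjugate -/
theorem idx_conj {B : Subgroup G} {U : Subgroup G} {i j j' : Fin k} (O : One M U B i) {s : G} (hs : s ∈ S)
    (hsj : ∀ v ∈ V, M.e (s * v * s⁻¹) j = 0 ↔ M.e v i = 0) (O' : One M U (cj s B) j') : j' = j := by
  by_contra hne
  obtain ⟨w, hw, hwj', hwl⟩ := exists_single M j' ![0, 1]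
  have hv := h.memV (inv_mem (h.SP' hs)) hw
  rw [inv_inv] at hv
  have e : s * (s⁻¹ * w * s) * s⁻¹ = w := by group
  have h1 := (hsj _ hv).1 (by rw [e]; exact hwl j (Ne.symm hne))
  have h2 : M.e (s⁻¹ * w * s) i 1 = 0 := by rw [h1]; rfl
  have h3 := (O.cen _ hv).2 h2
  have h4 := (O'.cen w hw).1 fun a ha => by
    obtain ⟨b, hb, rfl⟩ := exists_of_mem_cj ha
    have h5 := comm_conj (g := s) (h3 b hb)
    rwa [e] at h5
  rw [hwj'] at h4
  simp at h4

section fam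

variable [Finite G] [Finite F] [CharP F 2] {P U L : Subgroup G} {AA : Set (Subgroup G)} (X : BSit S P P' U V L AA)

include X

/-- every index occurs -/
theorem exists_idx {B : Subgroup G} (hB : Fr V (DM U AA) B) {i : Fin k} (O : One M U B i) (j : Fin k) :
    ∃ s ∈ S, Fr V (DM U AA) (cj s B) ∧ One M U (cj s B) j := by
  obtain ⟨s, hs, hsj⟩ := M.trans i j
  have h1 := (h.fam X).Fr_conj_S hs hB
  obtain ⟨j', O'⟩ := h.one X h1
  have h2 := h.idx_conj O hs hsj O'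
  rw [h2] at O'
  exact ⟨s, hs, h1, O'⟩

omit X [Finite G] [Finite F] [CharP F 2] in
/-- two root groups of the same index have the same commutator -/
theorem comm_eq_of_idx {B B' : Subgroup G} (hB : B ≤ S) (hB' : B' ≤ S) {i : Fin k} (O : One M U B i)
    (O' : One M U B' i) : ⁅V, B⁆ ≤ ⁅V, B'⁆ := comm_le fun v hv b hb => by
  obtain ⟨β, hβ⟩ := O.act b hb
  obtain ⟨b', hb', hβ'⟩ := O'.all β
  have h1 := h.same (h.SP' (hB hb)) (h.SP' (hB' hb')) hβ hβ' hv
  have e : v * b * v⁻¹ * b⁻¹ = v * b' * v⁻¹ * b'⁻¹ := by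
    calc v * b * v⁻¹ * b⁻¹ = v * (b * v * b⁻¹)⁻¹ := by group
      _ = v * (b' * v * b'⁻¹)⁻¹ := by rw [h1]
      _ = v * b' * v⁻¹ * b'⁻¹ := by group
  rw [e]
  exact mem_comm hv hb'

theorem orb {B : Subgroup G} (hB : Fr V (DM U AA) B) {B' : Subgroup G} (hB' : Fr V (DM U AA) B') :
    ∃ s ∈ S, cj s ⁅V, B⁆ = ⁅V, B'⁆ := by
  obtain ⟨i, O⟩ := h.one X hB
  obtain ⟨j, O'⟩ := h.one X hB'
  obtain ⟨s, hs, h1, O1⟩ := h.exists_idx X hB O j
  refine ⟨s, hs, ?_⟩
  rw [cj_comm, cj_eq_of_mem_normalizer (h.VP' (h.SP' hs))]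
  exact le_antisymm (h.comm_eq_of_idx (X.le _ h1.1.1) (X.le _ hB'.1.1) O1 O')
    (h.comm_eq_of_idx (X.le _ hB'.1.1) (X.le _ h1.1.1) O' O1)

omit h X [Finite G] [Finite F] [CharP F 2] in
theorem mem_K1 {B : Subgroup G} (hB : Fr V (DM U AA) B) {y : G} (hy : y ∈ P') {b : G} (hb : b ∈ B) :
    y * b * y⁻¹ ∈ K1 P' V (DM U AA) := subset_closure ⟨B, hB, y, hy, mem_cj_of hb⟩

omit h X [Finite G] [Finite F] [CharP F 2] in
theorem mem_KK {B : Subgroup G} (hB : Fr V (DM U AA) B) {y : G} (hy : y ∈ K1 P' V (DM U AA)) {b : G} (hb : b ∈ B) :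
    y * b * y⁻¹ ∈ KK P' V (DM U AA) := subset_closure ⟨B, hB, y, hy, mem_cj_of hb⟩

/-- **an element of `V` which is centralised by `KK` is in `D`** -/
theorem hk {v : G} (hv : v ∈ V) (hc : ∀ g ∈ KK P' V (DM U AA), g * v = v * g) : M.e v = 0 := by
  funext i
  obtain ⟨B0, hB0⟩ := X.ex
  obtain ⟨i0, O0⟩ := h.one X hB0
  obtain ⟨s, -, hB, O⟩ := h.exists_idx X hB0 O0 i
  set B := cj s B0
  have hBP : B ≤ P' := (X.le _ hB.1.1).trans h.SP'
  obtain ⟨b, hb, hbA⟩ := O.all 1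
  obtain ⟨y, hy, hyA⟩ := M.lift (sg i (wm 1 one_ne_zero))
  -- `y b y⁻¹` acts as `lo (-1)`
  have h1 : ActsSL M.e V D (y * b * y⁻¹) (sg i (lo (-1))) := by
    have h2 := h.acts_mul (inv_mem hy) (h.acts_mul (hBP hb) hyA hbA) (h.acts_inv hy hyA)
    have e : sg i (wm (1 : F) one_ne_zero) * sg i (up 1) * (sg i (wm 1 one_ne_zero))⁻¹ = sg i (lo (-1)) := by
      rw [← sg_mul, wm_up, sg_mul, mul_inv_cancel_right]
      simp
    rwa [e] at h2
  have hy1 : b * (y * b * y⁻¹) * b ∈ K1 P' V (DM U AA) := by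
    have h3 := mem_K1 (P' := P') hB (one_mem _) hb
    rw [one_mul, inv_one, mul_one] at h3
    exact mul_mem (mul_mem h3 (mem_K1 hB hy hb)) h3
  have hyP : y * b * y⁻¹ ∈ P' := mul_mem (mul_mem hy (hBP hb)) (inv_mem hy)
  have h2 := h.acts_mul (hBP hb) (h.acts_mul hyP hbA h1) hbA
  have hzP : b * (y * b * y⁻¹) * b ∈ P' := mul_mem (mul_mem (hBP hb) hyP) (hBP hb)
  set z := b * (y * b * y⁻¹) * b
  have h3 : ActsSL M.e V D (z * b * z⁻¹) (sg i (lo (-1))) := by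
    have h4 := h.acts_mul (inv_mem hzP) (h.acts_mul (hBP hb) h2 hbA) (h.acts_inv hzP h2)
    have e : sg i (up (1 : F)) * sg i (lo (-1)) * sg i (up 1) * sg i (up 1) *
        (sg i (up (1 : F)) * sg i (lo (-1)) * sg i (up 1))⁻¹ = sg i (lo (-1)) := by
      rw [mul_inv_eq_iff_eq_mul, ← sg_mul, ← sg_mul, ← sg_mul, ← sg_mul]
      congr 1
      refine ext_ent ?_ ?_ ?_ ?_ <;> (simp only [ent_mul]; simp)
    rwa [e] at h4
  have hbK := mem_KK (P' := P') hB (one_mem _) hb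
  rw [one_mul, inv_one, mul_one] at hbK
  have k1 := hc b hbK
  have k2 := hc _ (mem_KK hB hy1 hb)
  have e1 : b * v * b⁻¹ = v := by rw [k1]; group
  have e2 : z * b * z⁻¹ * v * (z * b * z⁻¹)⁻¹ = v := by rw [k2]; group
  have f1 := congrFun (hbA.1 v hv i) 0
  have f2 := congrFun (h3.1 v hv i) 1
  rw [e1, sg_self, ap_up_0, one_mul] at f1
  rw [e2, sg_self, ap_lo_1] at f2
  refine vec_eq ?_ ?_
  · have : -1 * M.e v i 0 = 0 := by
      rw [add_comm] at f2
      exact left_eq_add.1 f2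
    rw [neg_one_mul, neg_eq_zero] at this
    exact this
  · exact left_eq_add.1 f1

theorem n0 {B : Subgroup G} (hB : Fr V (DM U AA) B) : ¬ ⁅V, B⁆ ≤ CK P' V (DM U AA) := fun h0 => by
  obtain ⟨i, O⟩ := h.one X hB
  obtain ⟨x, hx, hxi⟩ := h.exists_comm (X.le _ hB.1.1) O 1
  have h1 := h.hk X (h.e_comm (X.le _ hB.1.1) O hx).1 fun g hg => mem_centralizer_iff.1 (h0 hx) g hg
  rw [h1] at hxi
  exact zero_ne_one hxi

theorem mv {Z : Subgroup G} (hZV : Z ≤ V) (hZD : ¬ Z ≤ D) : ∃ z ∈ Z, z ∉ CK P' V (DM U AA) := by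
  by_contra h0
  push Not at h0
  refine hZD fun z hz => (M.ker z (hZV hz)).1 (h.hk X (hZV hz) fun g hg => mem_centralizer_iff.1 (h0 z hz) g hg)

omit X [Finite G] [Finite F] in
/-- `|F| = 2`: `[V, A]` has one element `≠ 1` -/
theorem comm_two (h2 : ∀ β : F, β = 0 ∨ β = 1) {A : Subgroup G} (hA : A ≤ S) {i : Fin k} {U : Subgroup G}
    (O : One M U A i) : ∃ x, x ∈ V ∧ M.e x i 0 = 1 ∧ ∀ y ∈ ⁅V, A⁆, y = 1 ∨ y = x := by
  obtain ⟨w, hw, hwi, -⟩ := exists_single M i ![0, 1]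
  obtain ⟨a, ha, hab⟩ := O.all 1
  have haP := h.SP' (hA ha)
  have hx : a * w * a⁻¹ * w⁻¹ ∈ V := mul_mem (h.memV haP hw) (inv_mem hw)
  refine ⟨a * w * a⁻¹ * w⁻¹, hx, ?_, ?_⟩
  · rw [h.e_div (h.memV haP hw) hw, Pi.add_apply, Pi.add_apply, hab.1 w hw i, sg_self, hwi, ap_up_0]
    simp
  · set x := a * w * a⁻¹ * w⁻¹ with hxd
    let K : Subgroup G :=
      { carrier := {y | y = 1 ∨ y = x}
        mul_mem' := by
          rintro b c (rfl | rfl) (rfl | rfl)
          · left; rw [mul_one]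
          · right; rw [one_mul]
          · right; rw [mul_one]
          · left; exact h.sq hx
        one_mem' := Or.inl rfl
        inv_mem' := by
          rintro b (rfl | rfl)
          · left; rw [inv_one]
          · right; exact h.inv_eq hx }
    have h1 : ⁅V, A⁆ ≤ K := comm_le fun v hv c hc => by
      obtain ⟨β, hβ⟩ := O.act c hc
      have hcP := h.SP' (hA hc)
      have e : v * c * v⁻¹ * c⁻¹ = (c * v * c⁻¹ * v⁻¹)⁻¹ := by group
      rw [e]
      refine inv_mem (show c * v * c⁻¹ * v⁻¹ ∈ K from ?_)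
      rcases h2 β with rfl | rfl
      · left
        rw [up_zero, sg_one] at hβ
        rw [h.comm_of_one hcP hβ hv]
        group
      · have h3 := h.same hcP haP hβ hab hv
        have h4 := h.same hcP haP hβ hab hw
        rcases h2 (M.e v i 1) with h5 | h5
        · left
          rw [(O.cen v hv).2 h5 c hc]
          group
        · right
          have hm := mul_mem hv (inv_mem hw)
          have h6 := (O.cen _ hm).2 (by
            rw [h.e_div hv hw, Pi.add_apply, Pi.add_apply, h5, hwi]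
            exact CharTwo.add_self_eq_zero _) a ha
          rw [h3, hxd]
          calc a * v * a⁻¹ * v⁻¹ = (a * (v * w⁻¹)) * w * a⁻¹ * v⁻¹ := by group
            _ = (v * w⁻¹) * a * w * a⁻¹ * v⁻¹ := by rw [h6]
            _ = (v * w⁻¹) * (a * w * a⁻¹) * v⁻¹ := by group
            _ = (a * w * a⁻¹) * (v * w⁻¹) * v⁻¹ := by rw [h.cm hm (h.memV haP hw)]
            _ = (a * w * a⁻¹) * (v * w⁻¹ * v⁻¹) := by group
            _ = (a * w * a⁻¹) * (w⁻¹ * v * v⁻¹) := by rw [h.cm hv (inv_mem hw)]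
            _ = a * w * a⁻¹ * w⁻¹ := by group
    exact fun y hy => h1 hy

/-- **(B1), natural modules over the field with two elements** -/
theorem fix (h2 : ∀ β : F, β = 0 ∨ β = 1) : ∃ z ∈ U, z ≠ 1 ∧ ∀ g ∈ P, g * z = z * g := by
  classical
  let _ : Fintype G := Fintype.ofFinite G
  refine (h.fam X).exists_fix M.e M.mul (fun v hv hc => h.hk X hv hc) fun h0 => ?_
  obtain ⟨B, hB⟩ := X.ex
  obtain ⟨i, O⟩ := h.one X hB
  obtain ⟨x, hx, hxi, hxy⟩ := h.comm_two h2 (X.le _ hB.1.1) O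
  have h3 := congrFun (congrFun h0 i) 0
  rw [Finset.sum_apply, Finset.sum_apply, Finset.sum_eq_single x] at h3
  · rw [hxi] at h3
    exact one_ne_zero h3
  · intro y hy hyx
    obtain ⟨hy1, B', hB', hyB⟩ := (Finset.mem_filter.1 hy).2
    obtain ⟨j, O'⟩ := h.one X hB'
    by_cases hj : j = i
    · exfalso
      rw [hj] at O'
      have h4 := h.comm_eq_of_idx (X.le _ hB'.1.1) (X.le _ hB.1.1) O' O hyB
      rcases hxy y h4 with h5 | h5
      · exact hy1 h5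
      · exact hyx h5
    · rw [(h.e_comm (X.le _ hB'.1.1) O' hyB).2.1 i (fun e => hj e.symm)]
      rfl
  · intro hn
    exfalso
    apply hn
    obtain ⟨y, hy, hyi⟩ := h.exists_comm (X.le _ hB.1.1) O 1
    rcases hxy y hy with h5 | h5
    · rw [h5, e_one] at hyi
      exact absurd hyi zero_ne_one
    · rw [← h5]
      refine Finset.mem_filter.2 ⟨Finset.mem_univ _, fun h6 => ?_, B, hB, hy⟩
      rw [h6, e_one] at hyi
      exact zero_ne_one hyi

end fam

end Nb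

end Cfsg.Agent.Omega.NO3S.ThmB
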