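import Cfsg.Agent.Omega.NO3S.ThmB.NatM

/-!
# THEOREM B: natural modules for `P'`, the smallest best offenders

`BSit` : the setting of THEOREM B over a family `BFam`.

* `Nb.one` : a smallest best offender `A` which does not centralise `V` acts on `V` as one full root group, and
  `U = V C_U(A)`: `One M U A i`.
-/

set_option autoImplicit false

namespace Cfsg.Agent.Omega.NO3S.ThmB

open Subgroup Cfsg Cfsg.Agent.ZN Cfsg.Agent.ZN.ChoiceBase
open Cfsg.Agent.Omega.FFThm Cfsg.Agent.Omega.NatPair Cfsg.Agent.Lib.SL2Mat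

universe u

variable {G : Type u} [Group G]

/-- The setting of THEOREM B over a family of best offenders. -/
structure BSit (S P P' U V L : Subgroup G) (AA : Set (Subgroup G)) : Prop extends BFam S U L AA where
  SP : S ≤ P
  SP' : S ≤ P'
  PL : P ≤ L
  PL' : P' ≤ L
  LU : L ≤ normalizer (U : Set G)
  U2 : IsElementaryAbelian 2 U
  VU : V ≤ U
  VP' : P' ≤ normalizer (V : Set G)
  PS : ∀ A ∈ AA, ∀ g ∈ P, cj g A ≤ S
  PS' : ∀ A ∈ AA, A ≤ centralizer (V : Set G) → ∀ h ∈ P', cj h A ≤ S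
  nC : ∃ A ∈ AA, ¬ A ≤ centralizer (V : Set G)
  op : ∀ N : Subgroup G, N ≤ S → P ≤ normalizer (N : Set G) → P' ≤ normalizer (N : Set G) →
    N ≤ centralizer (U : Set G)

theorem BSit.ex [Finite G] {S P P' U V L : Subgroup G} {AA : Set (Subgroup G)} (X : BSit S P P' U V L AA) :
    ∃ A, Fr V (DM U AA) A :=
  X.toBFam.DM_ex X.LU X.PL X.PL' X.VU X.PS X.PS' X.nC X.op

theorem BSit.SU {S P P' U V L : Subgroup G} {AA : Set (Subgroup G)} (X : BSit S P P' U V L AA) :
    S ≤ normalizer (U : Set G) := (X.SP.trans X.PL).trans X.LU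

/-- The `Fam` of a `BSit`. -/
theorem BSit.fam [Finite G] {S P P' U V L : Subgroup G} {AA : Set (Subgroup G)} (X : BSit S P P' U V L AA)
    (full : ∀ A, Fr V (DM U AA) A → ∀ u ∈ U, ∃ v ∈ V, ∃ c ∈ U, (∀ a ∈ A, a * c = c * a) ∧ u = v * c)
    (uq : ∀ A, Fr V (DM U AA) A → ∀ e ∈ sSup AA, (∀ v ∈ V, (∀ a ∈ A, a * v = v * a) → e * v = v * e) →
      ∃ a ∈ A, ∀ v ∈ V, e * v * e⁻¹ = a * v * a⁻¹)
    (cJ : ∀ A, Fr V (DM U AA) A → ∀ x ∈ ⁅V, A⁆, ∀ e ∈ sSup AA, e * x = x * e) :
    Fam S P P' U V (sSup AA) (DM U AA) where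
  SP := X.SP
  SP' := X.SP'
  JS := sSup_le X.le
  JP := norm_sSup fun A hA g hg => X.conj A hA g (X.PL hg) (X.PS A hA g hg)
  DJ A hA := le_sSup hA.1
  DP A hA g hg := X.toBFam.DM_P X.LU X.PL X.PS hA hg
  DP' A hA hc h hh := X.toBFam.DM_conj X.LU hA (X.PL' hh) (X.PS' A hA.1 hc h hh)
  U2 := X.U2
  UP := X.PL.trans X.LU
  UP' := X.PL'.trans X.LU
  VU := X.VU
  VP' := X.VP'
  ex := X.ex
  full := full
  uq := uq
  cJ := cJ

/-- A map whose fibres are in cosets of `B`. -/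
theorem card_le_of_map [Finite G] {α : Type} [Finite α] {A B : Subgroup G} (f : G → α)
    (hf : ∀ a ∈ A, ∀ a' ∈ A, f a = f a' → a⁻¹ * a' ∈ B) : Nat.card A ≤ Nat.card α * Nat.card B := by
  classical
  rw [← Nat.card_prod]
  have key : ∀ x : α, ∃ s : G, (∃ a ∈ A, f a = x) → s ∈ A ∧ f s = x := fun x => by
    by_cases h : ∃ a ∈ A, f a = x
    · obtain ⟨a, ha, hx⟩ := h
      exact ⟨a, fun _ => ⟨ha, hx⟩⟩
    · exact ⟨1, fun h' => absurd h' h⟩
  choose s hs using key
  refine Nat.card_le_card_of_injective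
    (fun a : A => (⟨f a, ⟨(s (f a))⁻¹ * a, ?_⟩⟩ : α × B)) fun a a' h => ?_
  · have h1 := hs (f a) ⟨a, a.2, rfl⟩
    exact hf _ h1.1 _ a.2 h1.2
  · have h1 : f a = f a' := congrArg Prod.fst h
    have h2 : (s (f a))⁻¹ * (a : G) = (s (f a'))⁻¹ * a' := congrArg (fun t : α × B => (t.2 : G)) h
    rw [h1] at h2
    exact Subtype.ext (mul_left_cancel h2)

variable {F : Type} [Field F] {S P' V D : Subgroup G} {k : ℕ}

/-- `A` acts as the root group of the `i`-th summand. -/
structure One (M : NatKM F S P' V D k) (U A : Subgroup G) (i : Fin k) : Prop where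
  act : ∀ a ∈ A, ∃ β, ActsSL M.e V D a (sg i (up β))
  all : ∀ β, ∃ a ∈ A, ActsSL M.e V D a (sg i (up β))
  full : ∀ u ∈ U, ∃ v ∈ V, (∀ l, l ≠ i → M.e v l = 0) ∧ ∃ c ∈ U, (∀ a ∈ A, a * c = c * a) ∧ u = v * c
  cen : ∀ v ∈ V, (∀ a ∈ A, a * v = v * a) ↔ M.e v i 1 = 0

namespace Nb

variable {M : NatKM F S P' V D k} (h : Nb M)

include h

/-- the elements of `A` which are trivial on the `i`-th coordinate -/
def Ai (M : NatKM F S P' V D k) (A : Subgroup G) (hA : A ≤ P') (hV : P' ≤ normalizer (V : Set G)) (i : Fin k) :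
    Subgroup G where
  carrier := {a | a ∈ A ∧ ∀ v ∈ V, M.e (a * v * a⁻¹) i = M.e v i}
  mul_mem' := by
    rintro a b ⟨ha, ha'⟩ ⟨hb, hb'⟩
    refine ⟨mul_mem ha hb, fun v hv => ?_⟩
    have e : a * b * v * (a * b)⁻¹ = a * (b * v * b⁻¹) * a⁻¹ := by group
    rw [e, ha' _ (conj_mem hV (hA hb) hv), hb' v hv]
  one_mem' := ⟨one_mem _, fun v _ => by simp⟩
  inv_mem' := by
    rintro a ⟨ha, ha'⟩
    refine ⟨inv_mem ha, fun v hv => ?_⟩
    have h1 := ha' _ (conj_mem hV (inv_mem (hA ha)) hv)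
    have e : a * (a⁻¹ * v * a⁻¹⁻¹) * a⁻¹ = v := by group
    rw [e] at h1
    exact h1.symm

theorem one [Finite G] [Finite F] [CharP F 2] {P U L : Subgroup G} {AA : Set (Subgroup G)}
    (X : BSit S P P' U V L AA) {A : Subgroup G} (hA : Fr V (DM U AA) A) : ∃ i, One M U A i := by
  have hAS : A ≤ S := X.le A hA.1.1
  have hAP : A ≤ P' := hAS.trans h.SP'
  obtain ⟨I, hI1, hI2⟩ := M.offM A hAS (X.toBFam.offM X.U2 X.VU hA.1.1 hA.2)
  -- `I` is not empty
  obtain ⟨i, hi⟩ : I.Nonempty := by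
    by_contra hne
    rw [Set.not_nonempty_iff_eq_empty] at hne
    refine hA.2 fun a ha => mem_centralizer_iff.2 fun v hv => ?_
    obtain ⟨b, hb, hab⟩ := hI1 a ha
    have e : (fun i => up (b i)) = (1 : Fin k → Matrix.SpecialLinearGroup (Fin 2) F) := by
      funext l
      rw [hb l (by rw [hne]; exact fun h => h), up_zero]
      rfl
    rw [e] at hab
    exact (h.comm_of_one (hAP ha) hab hv).symm
  -- the element `a` with entry 1
  classical
  have hsg : ∀ l ∈ I, ∀ β, ∃ a ∈ A, ActsSL M.e V D a (sg l (up β)) := fun l hl β => by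
    obtain ⟨a, ha, hab⟩ := hI2 (Function.update 0 l β) fun j hj => by
      rw [Function.update_of_ne (fun e => hj (by rw [e]; exact hl))]
      rfl
    refine ⟨a, ha, ?_⟩
    have e : (fun j => up (Function.update (0 : Fin k → F) l β j)) = sg l (up β) := by
      funext j
      by_cases hj : j = l
      · rw [hj, Function.update_self, sg_self]
      · rw [Function.update_of_ne hj, sg_ne hj, Pi.zero_apply, up_zero]
    rwa [e] at hab
  -- `C_V(A)` is in `{e v i 1 = 0}`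
  have hcen : ∀ v ∈ V, (∀ a ∈ A, a * v = v * a) → M.e v i 1 = 0 := fun v hv hc => by
    obtain ⟨a, ha, hab⟩ := hsg i hi 1
    have h1 := hab.1 v hv i
    rw [sg_self] at h1
    have h2 : a * v * a⁻¹ = v := by rw [hc a ha]; group
    have h3 := congrFun h1 0
    rw [h2, ap_up_0, one_mul] at h3
    exact left_eq_add.1 h3
  obtain ⟨w0, hw0, hw0i, hw0l⟩ := exists_single M i ![0, 1]
  let B := Ai M A hAP h.VP' i
  have hBA : B ≤ A := fun a ha => ha.1
  -- entries
  have hent : ∀ a ∈ A, ∃ b : Fin k → F, (∀ l, l ∉ I → b l = 0) ∧ ActsSL M.e V D a (fun l => up (b l)) ∧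
      M.e (a * w0 * a⁻¹) i 0 = b i := fun a ha => by
    obtain ⟨b, hb, hab⟩ := hI1 a ha
    exact ⟨b, hb, hab, h.up_entry hab hw0 hw0i⟩
  have hBb : ∀ a ∈ A, ∀ b : Fin k → F, ActsSL M.e V D a (fun l => up (b l)) → (a ∈ B ↔ b i = 0) := by
    intro a ha b hab
    constructor
    · intro haB
      have h1 := haB.2 w0 hw0
      have h2 := h.up_entry hab hw0 hw0i
      rw [h1, hw0i] at h2
      exact h2.symm
    · intro h0
      refine ⟨ha, fun v hv => ?_⟩
      have h1 := hab.1 v hv i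
      simp only [h0, up_zero, ap_one] at h1
      exact h1
  have h1B : A ⊓ centralizer (U : Set G) ≤ B := fun a ha => by
    refine ⟨ha.1, fun v hv => ?_⟩
    have h1 : a * v * a⁻¹ = v := by
      rw [← (mem_centralizer_iff.1 ha.2 v (X.VU hv))]
      group
    rw [h1]
  have hBne : B ≠ A := fun e => by
    obtain ⟨a, ha, hab⟩ := hsg i hi 1
    have haB : a ∈ B := by rw [e]; exact ha
    have h1 := haB.2 w0 hw0
    have h2 := hab.1 w0 hw0 i
    rw [h1, sg_self, hw0i] at h2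
    have h3 := congrFun h2 0
    rw [ap_up_0] at h3
    simp at h3
  -- `B` centralises the `i`-th summand
  have hBV : ∀ a ∈ B, ∀ v ∈ V, (∀ l, l ≠ i → M.e v l = 0) → a * v = v * a := by
    intro a ha v hv hvl
    obtain ⟨b, hb, hab⟩ := hI1 a ha.1
    have h0 := (hBb a ha.1 b hab).1 ha
    exact h.dir (hAP ha.1) hab (by simp only [h0, up_zero]) hv hvl
  -- `|A| ≤ |F| |B|`
  have hcA : Nat.card A ≤ Nat.card F * Nat.card B := by
    refine card_le_of_map (fun a => M.e (a * w0 * a⁻¹) i 0) fun a ha a' ha' he => ?_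
    obtain ⟨b, hb, hab, hbi⟩ := hent a ha
    obtain ⟨b', hb', hab', hbi'⟩ := hent a' ha'
    have h1 : b i = b' i := by rw [← hbi, ← hbi']; exact he
    have h2 := h.acts_mul (hAP ha') (h.acts_inv (hAP ha) hab) hab'
    have e : ((fun l => up (b l))⁻¹ * fun l => up (b' l)) = fun l => up (-(b l) + b' l) := by
      funext l
      rw [Pi.mul_apply, Pi.inv_apply, up_inv, up_mul]
    rw [e] at h2
    exact (hBb _ (mul_mem (inv_mem ha) ha') _ h2).2 (by rw [h1, neg_add_cancel])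
  -- the elements `w x`
  have hw : ∀ x : F, ∃ w ∈ V, M.e w i = ![0, x] ∧ ∀ l, l ≠ i → M.e w l = 0 := fun x => exists_single M i _
  choose w hwV hwi hwl using hw
  have hinj : ∀ x c y d, c ∈ U → (∀ a ∈ A, a * c = c * a) → d ∈ U → (∀ a ∈ A, a * d = d * a) →
      w x * c = w y * d → x = y ∧ c = d := by
    intro x c y d hc hca hd hda e
    have h1 : (w y)⁻¹ * w x = d * c⁻¹ := by
      calc (w y)⁻¹ * w x = (w y)⁻¹ * (w x * c) * c⁻¹ := by group
        _ = (w y)⁻¹ * (w y * d) * c⁻¹ := by rw [e]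
        _ = d * c⁻¹ := by group
    have h2 := hcen _ (mul_mem (inv_mem (hwV y)) (hwV x)) (fun a ha => by
      rw [h1]
      exact (show Commute a d from hda a ha).mul_right ((show Commute a c from hca a ha).inv_right))
    rw [M.mul _ (inv_mem (hwV y)) _ (hwV x), h.e_inv (hwV y), Pi.add_apply, Pi.add_apply, hwi, hwi] at h2
    simp only [Matrix.cons_val_one, Matrix.cons_val_zero] at h2
    have h3 : x = y := by
      rw [add_comm] at h2
      exact CharTwo.add_eq_zero.1 h2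
    refine ⟨h3, ?_⟩
    rw [h3] at e
    exact mul_left_cancel e
  have hcU : Nat.card F * Nat.card ↥(U ⊓ centralizer (A : Set G)) ≤ Nat.card ↥(U ⊓ centralizer (B : Set G)) := by
    rw [← Nat.card_prod]
    refine Nat.card_le_card_of_injective
      (fun p : F × ↥(U ⊓ centralizer (A : Set G)) =>
        (⟨w p.1 * p.2, mul_mem ?_ ?_⟩ : ↥(U ⊓ centralizer (B : Set G)))) fun p q e => ?_
    · exact ⟨X.VU (hwV _), mem_centralizer_iff.2 fun a ha => hBV a ha _ (hwV _) (hwl _)⟩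
    · exact ⟨p.2.2.1, mem_centralizer_iff.2 fun a ha => mem_centralizer_iff.1 p.2.2.2 a (hBA ha)⟩
    · have h1 := hinj p.1 p.2 q.1 q.2 p.2.2.1 (mem_centralizer_iff.1 p.2.2.2) q.2.2.1
        (mem_centralizer_iff.1 q.2.2.2) (congrArg Subtype.val e)
      exact Prod.ext h1.1 (Subtype.ext h1.2)
  have hBU : B ≤ centralizer (U : Set G) := by
    refine X.toBFam.min_cut X.SU hA.1 h1B hBA hBne ?_
    calc Nat.card A * Nat.card ↥(U ⊓ centralizer (A : Set G)) ≤
        Nat.card F * Nat.card B * Nat.card ↥(U ⊓ centralizer (A : Set G)) := Nat.mul_le_mul_right _ hcA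
      _ = Nat.card B * (Nat.card F * Nat.card ↥(U ⊓ centralizer (A : Set G))) := by ring
      _ ≤ _ := Nat.mul_le_mul_left _ hcU
  have hUB : U ⊓ centralizer (B : Set G) = U := inf_eq_left.2 (le_centralizer_iff.1 hBU)
  -- `|U| ≤ |F| |C_U(A)|`
  have hUc : Nat.card U ≤ Nat.card F * Nat.card ↥(U ⊓ centralizer (A : Set G)) := by
    have h1 := X.best A hA.1.1 B h1B hBA
    rw [hUB] at h1
    have hp : 0 < Nat.card B := Nat.card_pos
    refine Nat.le_of_mul_le_mul_left ?_ hp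
    calc Nat.card B * Nat.card U ≤ Nat.card A * Nat.card ↥(U ⊓ centralizer (A : Set G)) := h1
      _ ≤ Nat.card F * Nat.card B * Nat.card ↥(U ⊓ centralizer (A : Set G)) := Nat.mul_le_mul_right _ hcA
      _ = _ := by ring
  have hfull : ∀ u ∈ U, ∃ x c, c ∈ U ∧ (∀ a ∈ A, a * c = c * a) ∧ u = w x * c := by
    let f : F × ↥(U ⊓ centralizer (A : Set G)) → U := fun p => ⟨w p.1 * p.2, mul_mem (X.VU (hwV _)) p.2.2.1⟩
    have hf : Function.Injective f := fun p q e => by
      have h1 := hinj p.1 p.2 q.1 q.2 p.2.2.1 (mem_centralizer_iff.1 p.2.2.2) q.2.2.1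
        (mem_centralizer_iff.1 q.2.2.2) (congrArg Subtype.val e)
      exact Prod.ext h1.1 (Subtype.ext h1.2)
    have hb := hf.bijective_of_nat_card_le (by rw [Nat.card_prod]; exact hUc)
    intro u hu
    obtain ⟨p, hp⟩ := hb.2 ⟨u, hu⟩
    exact ⟨p.1, p.2, p.2.2.1, mem_centralizer_iff.1 p.2.2.2, (congrArg Subtype.val hp).symm⟩
  refine ⟨i, fun a ha => ?_, hsg i hi, fun u hu => ?_, fun v hv => ⟨hcen v hv, fun h0 => ?_⟩⟩
  · -- `I = {i}`
    obtain ⟨b, hb, hab⟩ := hI1 a ha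
    refine ⟨b i, ?_⟩
    have e : (fun l => up (b l)) = sg i (up (b i)) := by
      refine eq_sg (A := fun l => up (b l)) fun l hl => ?_
      by_cases hlI : l ∈ I
      · exfalso
        obtain ⟨a', ha', hab'⟩ := hsg l hlI 1
        have haB : a' ∈ B := by
          refine ⟨ha', fun v hv => ?_⟩
          rw [hab'.1 v hv i, sg_ne (fun e => hl e.symm), ap_one]
        obtain ⟨w1, hw1, hw1l, -⟩ := exists_single M l ![0, 1]
        have h2 := mem_centralizer_iff.1 (hBU haB) w1 (X.VU hw1)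
        have h3 : a' * w1 * a'⁻¹ = w1 := by rw [← h2]; group
        have h4 := congrFun (hab'.1 w1 hw1 l) 0
        rw [h3, sg_self, hw1l, ap_up_0] at h4
        simp at h4
      · simp only [hb l hlI, up_zero]
    rwa [e] at hab
  · obtain ⟨x, c, hc, hca, e⟩ := hfull u hu
    exact ⟨w x, hwV x, hwl x, c, hc, hca, e⟩
  · obtain ⟨x, c, hc, hca, e⟩ := hfull v (X.VU hv)
    have hcV : c ∈ V := by
      have h1 : c = (w x)⁻¹ * v := by rw [e]; group
      rw [h1]
      exact mul_mem (inv_mem (hwV x)) hv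
    have h1 := hcen c hcV hca
    have h2 := congrFun (congrFun (M.mul _ (hwV x) _ hcV) i) 1
    rw [← e, h0, Pi.add_apply, Pi.add_apply, h1, hwi] at h2
    have h3 : x = 0 := by simpa using h2.symm
    have h4 : w x ∈ D := by
      rw [← M.ker _ (hwV x)]
      funext l
      by_cases hl : l = i
      · rw [hl, hwi, h3]
        refine vec_eq ?_ ?_ <;> simp
      · exact hwl x l hl
    intro a ha
    obtain ⟨b, -, hab⟩ := hI1 a ha
    rw [e]
    exact (show Commute a (w x) from hab.2 _ h4).mul_right (hca a ha)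

end Nb

end Cfsg.Agent.Omega.NO3S.ThmB
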