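import Cfsg.Agent.Omega.NO3S.ThmB.Best

/-!
# THEOREM B: natural modules for `P'`, the action on `V`

`M : NatKM F S P' V D k`, and an element of `P'` which is trivial on `V / D` and on `D` is trivial on `V` (`Nb`).

* `Nb.dir` : an element which acts as `A ∈ SL₂(F)^k` with `A j = 1` and centralises `D` centralises the full preimage
  of the `j`-th summand of `V / D`;
* `Nb.upact` : `J` acts as a group of upper unitriangular families.
-/

set_option autoImplicit false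

namespace Cfsg.Agent.Omega.NO3S.ThmB

open Subgroup Cfsg Cfsg.Agent.ZN Cfsg.Agent.ZN.ChoiceBase
open Cfsg.Agent.Omega.FFThm Cfsg.Agent.Omega.NatPair Cfsg.Agent.Lib.SL2Mat

universe u

/-! ### Families with one entry -/

section sg

variable {k : ℕ} {α : Type*} [Group α]

/-- the family with entry `A` at `i` -/
def sg (i : Fin k) (A : α) : Fin k → α := Function.update 1 i A

theorem sg_self (i : Fin k) (A : α) : sg i A i = A := Function.update_self _ _ _

theorem sg_ne {i l : Fin k} (hl : l ≠ i) (A : α) : sg i A l = 1 := by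
  rw [sg, Function.update_of_ne hl]; rfl

theorem sg_mul (i : Fin k) (A B : α) : sg i (A * B) = sg i A * sg i B := by
  funext l
  rw [Pi.mul_apply]
  by_cases hl : l = i
  · rw [hl, sg_self, sg_self, sg_self]
  · rw [sg_ne hl, sg_ne hl, sg_ne hl, one_mul]

theorem sg_one (i : Fin k) : sg i (1 : α) = 1 := by
  funext l
  by_cases hl : l = i
  · rw [hl, sg_self]; rfl
  · rw [sg_ne hl]; rfl

theorem eq_sg {i : Fin k} {A : Fin k → α} (h : ∀ l, l ≠ i → A l = 1) : A = sg i (A i) := by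
  funext l
  by_cases hl : l = i
  · rw [hl, sg_self]
  · rw [sg_ne hl, h l hl]

theorem sg_comm {i : Fin k} {A : Fin k → α} (h : A i = 1) (B : α) : A * sg i B = sg i B * A := by
  funext l
  rw [Pi.mul_apply, Pi.mul_apply]
  by_cases hl : l = i
  · rw [hl, h, one_mul, mul_one]
  · rw [sg_ne hl, one_mul, mul_one]

end sg

section mat

variable {F : Type} [Field F]

theorem ap_up_0 (b : F) (x : Fin 2 → F) : ap (up b) x 0 = x 0 + b * x 1 := by
  rw [ap_zero', up_00, up_01, one_mul]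

theorem ap_up_1 (b : F) (x : Fin 2 → F) : ap (up b) x 1 = x 1 := by
  rw [ap_one', up_10, up_11, zero_mul, one_mul, zero_add]

theorem ap_lo_0 (b : F) (x : Fin 2 → F) : ap (lo b) x 0 = x 0 := by
  rw [ap_zero', lo_00, lo_01, one_mul, zero_mul, add_zero]

theorem ap_lo_1 (b : F) (x : Fin 2 → F) : ap (lo b) x 1 = b * x 0 + x 1 := by
  rw [ap_one', lo_10, lo_11, one_mul]

theorem ap_zr (A : Matrix.SpecialLinearGroup (Fin 2) F) : ap A 0 = 0 := by
  have h := ap_add A 0 0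
  rw [add_zero] at h
  exact left_eq_add.1 h

theorem vec_eq {x y : Fin 2 → F} (h0 : x 0 = y 0) (h1 : x 1 = y 1) : x = y := by
  funext i
  fin_cases i
  · exact h0
  · exact h1

end mat

variable {G : Type u} [Group G] {F : Type} [Field F] {S P' V D : Subgroup G} {k : ℕ}

/-- the block of `P'` -/
structure Nb (M : NatKM F S P' V D k) : Prop where
  SP' : S ≤ P'
  V2 : IsElementaryAbelian 2 V
  VP' : P' ≤ normalizer (V : Set G)
  DV : D ≤ V
  DP' : P' ≤ normalizer (D : Set G)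
  triv : ∀ g ∈ P', (∀ v ∈ V, M.e (g * v * g⁻¹) = M.e v) → (∀ d ∈ D, g * d = d * g) → ∀ v ∈ V, g * v = v * g

namespace Nb

variable {M : NatKM F S P' V D k} (h : Nb M)

include h

theorem cm {v w : G} (hv : v ∈ V) (hw : w ∈ V) : v * w = w * v := elem_comm h.V2 hv hw

theorem sq {v : G} (hv : v ∈ V) : v * v = 1 := by
  have := h.V2.2 v hv
  rwa [pow_two] at this

theorem inv_eq {v : G} (hv : v ∈ V) : v⁻¹ = v := inv_eq_of_mul_eq_one_left (h.sq hv)

omit h in
theorem e_one : M.e 1 = 0 := by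
  have h1 := M.mul 1 (one_mem _) 1 (one_mem _)
  rw [one_mul] at h1
  exact left_eq_add.1 h1

theorem e_inv {v : G} (hv : v ∈ V) : M.e v⁻¹ = M.e v := by rw [h.inv_eq hv]

theorem add_self [CharP F 2] (x : Fin k → Fin 2 → F) : x + x = 0 := by
  funext i j
  exact CharTwo.add_self_eq_zero _

theorem memV {g v : G} (hg : g ∈ P') (hv : v ∈ V) : g * v * g⁻¹ ∈ V := conj_mem h.VP' hg hv

theorem e_div {v w : G} (hv : v ∈ V) (hw : w ∈ V) : M.e (v * w⁻¹) = M.e v + M.e w := by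
  rw [M.mul v hv _ (inv_mem hw), h.e_inv hw]

theorem mem_D [CharP F 2] {v w : G} (hv : v ∈ V) (hw : w ∈ V) : v * w⁻¹ ∈ D ↔ M.e v = M.e w := by
  rw [← M.ker _ (mul_mem hv (inv_mem hw)), h.e_div hv hw]
  constructor
  · intro h1
    have h2 := congrArg (· + M.e w) h1
    simp only [add_assoc, h.add_self, add_zero, zero_add] at h2
    exact h2
  · intro h1
    rw [h1, h.add_self]

omit h in
/-- an element of `V` with one nonzero coordinate -/
theorem exists_single (M : NatKM F S P' V D k) (i : Fin k) (x : Fin 2 → F) :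
    ∃ v ∈ V, M.e v i = x ∧ ∀ l, l ≠ i → M.e v l = 0 := by
  obtain ⟨v, hv, hx⟩ := M.surj (Function.update (0 : Fin k → Fin 2 → F) i x)
  refine ⟨v, hv, by rw [hx, Function.update_self], fun l hl => ?_⟩
  rw [hx, Function.update_of_ne hl]
  rfl

theorem acts_mul {g x : G} {A B : Fin k → Matrix.SpecialLinearGroup (Fin 2) F} (hx : x ∈ P')
    (hA : ActsSL M.e V D g A) (hB : ActsSL M.e V D x B) : ActsSL M.e V D (g * x) (A * B) := by
  refine ⟨fun v hv i => ?_, fun d hd => ?_⟩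
  · have e1 : g * x * v * (g * x)⁻¹ = g * (x * v * x⁻¹) * g⁻¹ := by group
    rw [e1, hA.1 _ (h.memV hx hv), hB.1 v hv, Pi.mul_apply, ap_mul]
  · exact (show Commute g d from hA.2 d hd).mul_left (hB.2 d hd)

theorem acts_inv {g : G} {A : Fin k → Matrix.SpecialLinearGroup (Fin 2) F} (hg : g ∈ P')
    (hA : ActsSL M.e V D g A) : ActsSL M.e V D g⁻¹ A⁻¹ := by
  refine ⟨fun v hv i => ?_, fun d hd => ?_⟩
  · have h1 := hA.1 _ (h.memV (inv_mem hg) hv) i
    have e1 : g * (g⁻¹ * v * g⁻¹⁻¹) * g⁻¹ = v := by group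
    rw [e1] at h1
    rw [h1, Pi.inv_apply, ap_inv_ap]
  · exact (show Commute g d from hA.2 d hd).inv_left

omit h in
theorem acts_one : ActsSL M.e V D 1 1 := by
  refine ⟨fun v _ i => ?_, fun d _ => by rw [one_mul, mul_one]⟩
  rw [Pi.one_apply, ap_one, one_mul, inv_one, mul_one]

theorem comm_of_one {g : G} (hg : g ∈ P') (hA : ActsSL M.e V D g 1) {v : G} (hv : v ∈ V) : g * v = v * g := by
  refine h.triv g hg (fun w hw => ?_) hA.2 v hv
  funext i
  rw [hA.1 w hw i, Pi.one_apply, ap_one]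

/-- two elements with the same action on `V / D` and `D` act in the same way on `V` -/
theorem same {g x : G} {A : Fin k → Matrix.SpecialLinearGroup (Fin 2) F} (hg : g ∈ P') (hx : x ∈ P')
    (hA : ActsSL M.e V D g A) (hB : ActsSL M.e V D x A) {v : G} (hv : v ∈ V) : g * v * g⁻¹ = x * v * x⁻¹ := by
  have h1 := h.acts_mul hg (h.acts_inv hx hB) hA
  rw [inv_mul_cancel] at h1
  have h2 := h.comm_of_one (mul_mem (inv_mem hx) hg) h1 hv
  calc g * v * g⁻¹ = x * (x⁻¹ * g * v) * g⁻¹ := by group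
    _ = x * (v * (x⁻¹ * g)) * g⁻¹ := by rw [h2]
    _ = x * v * x⁻¹ := by group

/-- commuting families: `g` and `x` commute on `V` -/
theorem swap {g x : G} {A B : Fin k → Matrix.SpecialLinearGroup (Fin 2) F} (hg : g ∈ P') (hx : x ∈ P')
    (hA : ActsSL M.e V D g A) (hB : ActsSL M.e V D x B) (hAB : A * B = B * A) {v : G} (hv : v ∈ V) :
    g * (x * v * x⁻¹) * g⁻¹ = x * (g * v * g⁻¹) * x⁻¹ := by
  have h1 := h.acts_mul hx hA hB
  have h2 := h.acts_mul hg hB hA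
  rw [← hAB] at h2
  have h3 := h.same (mul_mem hg hx) (mul_mem hx hg) h1 h2 hv
  calc g * (x * v * x⁻¹) * g⁻¹ = g * x * v * (g * x)⁻¹ := by group
    _ = x * g * v * (x * g)⁻¹ := h3
    _ = x * (g * v * g⁻¹) * x⁻¹ := by group

/-- `g` acts trivially on the `j`-th summand: it centralises `[w, c]`, `w` in the `j`-th summand, `c` in the `j`-th
factor -/
theorem dir_aux [CharP F 2] {g : G} {A : Fin k → Matrix.SpecialLinearGroup (Fin 2) F} (hg : g ∈ P')
    (hA : ActsSL M.e V D g A) {j : Fin k} (hj : A j = 1) {w : G} (hw : w ∈ V) (hwj : ∀ l, l ≠ j → M.e w l = 0)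
    {c : G} (hc : c ∈ P') {B : Matrix.SpecialLinearGroup (Fin 2) F} (hB : ActsSL M.e V D c (sg j B)) :
    g * (c * w * c⁻¹ * w⁻¹) = (c * w * c⁻¹ * w⁻¹) * g := by
  have h1 : g * w * g⁻¹ * w⁻¹ ∈ D := by
    rw [h.mem_D (h.memV hg hw) hw]
    funext l
    rw [hA.1 w hw l]
    by_cases hl : l = j
    · rw [hl, hj, ap_one]
    · rw [hwj l hl, ap_zr]
  have h2 := hB.2 _ h1
  have h3 := h.swap hg hc hA hB (sg_comm hj B) hw
  have h4 : g * (c * w * c⁻¹) * g⁻¹ = (g * w * g⁻¹ * w⁻¹) * (c * w * c⁻¹) := by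
    rw [h3]
    calc c * (g * w * g⁻¹) * c⁻¹ = (c * (g * w * g⁻¹ * w⁻¹)) * w * c⁻¹ := by group
      _ = (g * w * g⁻¹ * w⁻¹ * c) * w * c⁻¹ := by rw [h2]
      _ = _ := by group
  have h5 : g * (c * w * c⁻¹ * w⁻¹) * g⁻¹ = c * w * c⁻¹ * w⁻¹ := by
    calc g * (c * w * c⁻¹ * w⁻¹) * g⁻¹ = (g * (c * w * c⁻¹) * g⁻¹) * (g * w * g⁻¹)⁻¹ := by group
      _ = (g * w * g⁻¹ * w⁻¹) * (c * w * c⁻¹) * (g * w * g⁻¹)⁻¹ := by rw [h4]
      _ = (c * w * c⁻¹) * (g * w * g⁻¹ * w⁻¹) * (g * w * g⁻¹)⁻¹ := by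
        rw [h.cm (h.DV h1) (h.memV hc hw)]
      _ = (c * w * c⁻¹) * ((g * w * g⁻¹) * w⁻¹ * (g * w * g⁻¹)⁻¹) := by group
      _ = (c * w * c⁻¹) * (w⁻¹ * (g * w * g⁻¹) * (g * w * g⁻¹)⁻¹) := by
        rw [h.cm (h.memV hg hw) (inv_mem hw)]
      _ = c * w * c⁻¹ * w⁻¹ := by group
  exact mul_inv_eq_iff_eq_mul.1 h5

/-- **(dir)** -/
theorem dir [CharP F 2] {g : G} {A : Fin k → Matrix.SpecialLinearGroup (Fin 2) F} (hg : g ∈ P')
    (hA : ActsSL M.e V D g A) {j : Fin k} (hj : A j = 1) {v : G} (hv : v ∈ V) (hvj : ∀ l, l ≠ j → M.e v l = 0) :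
    g * v = v * g := by
  obtain ⟨w1, hw1, hw1j, hw1l⟩ := exists_single M j ![0, M.e v j 0]
  obtain ⟨w2, hw2, hw2j, hw2l⟩ := exists_single M j ![M.e v j 1, 0]
  obtain ⟨c1, hc1, hc1A⟩ := M.lift (sg j (up 1))
  obtain ⟨c2, hc2, hc2A⟩ := M.lift (sg j (lo 1))
  have k1 := h.dir_aux hg hA hj hw1 hw1l hc1 hc1A
  have k2 := h.dir_aux hg hA hj hw2 hw2l hc2 hc2A
  have m1 : c1 * w1 * c1⁻¹ * w1⁻¹ ∈ V := mul_mem (h.memV hc1 hw1) (inv_mem hw1)
  have m2 : c2 * w2 * c2⁻¹ * w2⁻¹ ∈ V := mul_mem (h.memV hc2 hw2) (inv_mem hw2)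
  set x1 := c1 * w1 * c1⁻¹ * w1⁻¹ with hx1
  set x2 := c2 * w2 * c2⁻¹ * w2⁻¹ with hx2
  have e1 : M.e x1 = M.e (c1 * w1 * c1⁻¹) + M.e w1 := h.e_div (h.memV hc1 hw1) hw1
  have e2 : M.e x2 = M.e (c2 * w2 * c2⁻¹) + M.e w2 := h.e_div (h.memV hc2 hw2) hw2
  have hd : v * (x1 * x2)⁻¹ ∈ D := by
    rw [h.mem_D hv (mul_mem m1 m2), M.mul _ m1 _ m2, e1, e2]
    funext l
    rw [Pi.add_apply, Pi.add_apply, Pi.add_apply, hc1A.1 w1 hw1 l, hc2A.1 w2 hw2 l]
    by_cases hl : l = j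
    · subst hl
      rw [sg_self, sg_self, hw1j, hw2j]
      refine vec_eq ?_ ?_
      · rw [Pi.add_apply, Pi.add_apply, Pi.add_apply, ap_up_0, ap_lo_0]
        simp only [Matrix.cons_val_zero, Matrix.cons_val_one, one_mul, zero_add, add_zero]
        rw [CharTwo.add_self_eq_zero, add_zero]
      · rw [Pi.add_apply, Pi.add_apply, Pi.add_apply, ap_up_1, ap_lo_1]
        simp only [Matrix.cons_val_zero, Matrix.cons_val_one, one_mul, zero_add, add_zero]
        rw [CharTwo.add_self_eq_zero, zero_add]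
    · rw [sg_ne hl, sg_ne hl, hw1l l hl, hw2l l hl, hvj l hl, ap_zr]
      simp
  have e3 : v = (v * (x1 * x2)⁻¹) * (x1 * x2) := by group
  have h3 : Commute g (v * (x1 * x2)⁻¹) := hA.2 _ hd
  have h4 : Commute g (x1 * x2) := (show Commute g x1 from k1).mul_right k2
  have h5 := h3.mul_right h4
  rw [← e3] at h5
  exact h5

/-- the upper unitriangular families commute -/
theorem up_comm (b c : Fin k → F) : ((fun i => up (b i)) * fun i => up (c i)) =
    ((fun i => up (c i)) * fun i => up (b i)) := by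
  funext i
  rw [Pi.mul_apply, Pi.mul_apply, up_mul, up_mul, add_comm]

/-- the entry of an upper unitriangular element -/
theorem up_entry {g : G} {b : Fin k → F} (hA : ActsSL M.e V D g fun i => up (b i)) {w : G} (hw : w ∈ V) {i : Fin k}
    (hwi : M.e w i = ![0, 1]) : M.e (g * w * g⁻¹) i 0 = b i := by
  rw [hA.1 w hw i, hwi, ap_up_0]
  simp

end Nb

end Cfsg.Agent.Omega.NO3S.ThmB
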