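import Cfsg.Agent.Omega.NO3S.ThmB.SymM

/-!
# THEOREM B: even-subset modules for `P'`

* `Sb.one` : a smallest best offender `A` which does not centralise `V` acts on `V` as one transposition, and
  `|U : C_U(A)| = 2`: `OneS`;
* `Sb.fam` : `Fam`;
* `Sb.hk` : an element of `V` which is centralised by `KK` is in `D`;
* `Sb.fix` : **(B1)** for even-subset modules.
-/

set_option autoImplicit false

namespace Cfsg.Agent.Omega.NO3S.ThmB

open Subgroup Cfsg Cfsg.Agent.ZN Cfsg.Agent.ZN.ChoiceBase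
open Cfsg.Agent.Omega.FFThm

universe u

variable {G : Type u} [Group G] {S P' V D : Subgroup G} {k m : ℕ}

/-- `A` acts as the transposition `(x y)` of the `i`-th summand. -/
structure OneS (M : SymKM S P' V D k m) (U A : Subgroup G) (i : Fin k) (x y : Fin (2 ^ m + 1)) (t n0 : G) : Prop where
  xy : x ≠ y
  x0 : x ≠ 0
  y0 : y ≠ 0
  AS : A ≤ S
  tA : t ∈ A
  tt : Ac M t (pr i x y)
  act : ∀ a ∈ A, a ∈ centralizer (U : Set G) ∨ t⁻¹ * a ∈ centralizer (U : Set G)
  nV : n0 ∈ V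
  en : M.e n0 = dl i x + dl i 0
  full : ∀ u ∈ U, (∀ a ∈ A, a * u = u * a) ∨ ∀ a ∈ A, a * (n0⁻¹ * u) = (n0⁻¹ * u) * a
  cen : ∀ v ∈ V, (∀ a ∈ A, a * v = v * a) ↔ M.e v i x = M.e v i y
  fix : ∀ g ∈ P', ∀ τ : Fin k → Equiv.Perm (Fin (2 ^ m + 1)), Ac M g τ →
      τ i x = x → τ i y = y → τ i 0 = 0 → g * n0 = n0 * g

namespace Sb

variable {M : SymKM S P' V D k m} (h : Sb M)

include h

omit h in
/-- the elements of an offender -/
theorem off_elem [Finite G] {P U L : Subgroup G} {AA : Set (Subgroup G)} (X : BSit S P P' U V L AA) {B : Subgroup G}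
    (hB : B ∈ AA) (hc : ¬ B ≤ centralizer (V : Set G)) {g : G} (hg : g ∈ B) :
    ∃ τ : Fin k → Equiv.Perm (Fin (2 ^ m + 1)), Ac M g τ ∧ (∀ i, τ i 0 = 0) ∧
      ∀ i x, τ i x ≠ x → τ i (τ i x) = x ∧ ∃ b ∈ B, Ac M b (pr i x (τ i x)) := by
  obtain ⟨h1, h2⟩ := M.offM B (X.le B hB) (X.toBFam.offM X.U2 X.VU hB hc)
  obtain ⟨τ, hτ, hτ'⟩ := h2 g hg
  refine ⟨τ, ⟨hτ, h1 g hg⟩, M.fix0 g (X.le B hB hg) 1 τ hτ, fun i x hx => ?_⟩
  obtain ⟨h3, b, hb, hbA⟩ := hτ' i x hx
  exact ⟨h3, b, hb, hbA, h1 b hb⟩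

/-- an element of an offender preserves the transpositions of `S` -/
theorem keep [Finite G] {P U L : Subgroup G} {AA : Set (Subgroup G)} (X : BSit S P P' U V L AA) {B : Subgroup G}
    (hB : B ∈ AA) {τ : Fin k → Equiv.Perm (Fin (2 ^ m + 1))}
    (hτ : ∀ i x, τ i x ≠ x → τ i (τ i x) = x ∧ ∃ b ∈ B, Ac M b (pr i x (τ i x)))
    {t : G} (ht : t ∈ S) {i : Fin k} {x y : Fin (2 ^ m + 1)} (hxy : x ≠ y) (htA : ActsSym M.e V t 1 (pr i x y)) :
    (τ i x = x ∧ τ i y = y) ∨ (τ i x = y ∧ τ i y = x) := by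
  have hx : τ i x = x ∨ τ i x = y := by
    by_cases hx : τ i x = x
    · exact Or.inl hx
    · obtain ⟨-, b, hb, hbA⟩ := hτ i x hx
      exact Or.inr (h.disj ht (X.le B hB hb) (Ne.symm hxy) hx htA hbA.1).symm
  have hy : τ i y = y ∨ τ i y = x := by
    by_cases hy : τ i y = y
    · exact Or.inl hy
    · obtain ⟨-, b, hb, hbA⟩ := hτ i y hy
      have htA' : ActsSym M.e V t 1 (pr i y x) := by rwa [pr, Equiv.swap_comm] at htA
      exact Or.inr (h.disj ht (X.le B hB hb) hxy hy htA' hbA.1).symm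
  rcases hx with hx | hx <;> rcases hy with hy | hy
  · exact Or.inl ⟨hx, hy⟩
  · exact absurd ((τ i).injective (hx.trans hy.symm)) hxy
  · exact absurd ((τ i).injective (hx.trans hy.symm)) hxy
  · exact Or.inr ⟨hx, hy⟩

theorem one [Finite G] {P U L : Subgroup G} {AA : Set (Subgroup G)}
    (X : BSit S P P' U V L AA) {A : Subgroup G} (hA : Fr V (DM U AA) A) : ∃ i x y t n0, OneS M U A i x y t n0 := by
  have hAS : A ≤ S := X.le A hA.1.1
  have hAP : A ≤ P' := hAS.trans h.SP'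
  -- a transposition
  obtain ⟨i, x, y, t, hxy, hx0, hy0, htA, htt⟩ : ∃ i x y, ∃ t, x ≠ y ∧ x ≠ 0 ∧ y ≠ 0 ∧ t ∈ A ∧ Ac M t (pr i x y) := by
    by_contra hne
    push Not at hne
    refine hA.2 fun a ha => mem_centralizer_iff.2 fun v hv => ?_
    obtain ⟨τ, hτ, h0, hτ'⟩ := off_elem X hA.1.1 hA.2 ha
    have h1 : τ = 1 := by
      funext i
      ext1 x
      by_contra hx
      have hx' : τ i x ≠ x := hx
      obtain ⟨-, b, hb, hbA⟩ := hτ' i x hx'
      have hx0 : x ≠ 0 := fun e => hx' (by rw [e, h0])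
      have hy0 : τ i x ≠ 0 := fun e => hx0 ((τ i).injective (by rw [e, h0]))
      exact hne i x (τ i x) b (Ne.symm hx') hx0 hy0 hb hbA
    rw [h1] at hτ
    exact (h.comm_of_one (hAP ha) hτ hv).symm
  obtain ⟨n0, hn, hne, hfix⟩ := h.nx (i := i) hxy hx0 hy0
  have htP := hAP htA
  have hpx : pr i x y i x = y := by rw [pr, sg_self, Equiv.swap_apply_left]
  have hpy : pr i x y i y = x := by rw [pr, sg_self, Equiv.swap_apply_right]
  have hp0 : pr i x y i 0 = 0 := by
    rw [pr, sg_self, Equiv.swap_apply_of_ne_of_ne (Ne.symm hx0) (Ne.symm hy0)]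
  have htn : M.e (t * n0 * t⁻¹) = dl i y + dl i 0 := by rw [e_pair htt.1 hn hne, hpx, hp0]
  have htn' : t * n0 * t⁻¹ ≠ n0 := fun e => by
    rw [e, hne] at htn
    have h1 := congrFun (congrFun htn i) x
    rw [Pi.add_apply, Pi.add_apply, Pi.add_apply, Pi.add_apply, dl_self, dl_ne i hx0, dl_ne i hxy] at h1
    simp at h1
  -- `C_V(A)`
  have hcen : ∀ v ∈ V, (∀ a ∈ A, a * v = v * a) → M.e v i x = M.e v i y := fun v hv hc => by
    have h1 := htt.1 v hv i x
    have h2 : t * v * t⁻¹ = v := by rw [hc t htA]; group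
    rw [h2, hpx] at h1
    exact h1.symm
  -- every element of `A`
  have hel : ∀ a ∈ A, a * n0 = n0 * a ∨ (t⁻¹ * a) * n0 = n0 * (t⁻¹ * a) := by
    intro a ha
    obtain ⟨τ, hτ, h0, hτ'⟩ := off_elem X hA.1.1 hA.2 ha
    rcases h.keep X hA.1.1 hτ' (hAS htA) hxy htt.1 with ⟨h1, h2⟩ | ⟨h1, h2⟩
    · exact Or.inl (hfix a (hAP ha) τ hτ h1 h2 (h0 i))
    · right
      have h3 := h.ac_mul (hAP ha) (h.ac_inv htP htt) hτ
      have e : ((pr i x y)⁻¹ * τ) i = Equiv.swap x y * τ i := by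
        rw [Pi.mul_apply, Pi.inv_apply, pr, sg_self, Equiv.swap_inv]
      refine hfix _ (mul_mem (inv_mem htP) (hAP ha)) _ h3 ?_ ?_ ?_
      · rw [e, Equiv.Perm.mul_apply, h1, Equiv.swap_apply_right]
      · rw [e, Equiv.Perm.mul_apply, h2, Equiv.swap_apply_left]
      · rw [e, Equiv.Perm.mul_apply, h0 i, Equiv.swap_apply_of_ne_of_ne (Ne.symm hx0) (Ne.symm hy0)]
  let B : Subgroup G := A ⊓ centralizer ({n0} : Set G)
  have hBmem : ∀ a, a ∈ B ↔ a ∈ A ∧ a * n0 = n0 * a := fun a => by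
    rw [mem_inf, mem_centralizer_singleton_iff]
  have hBA : B ≤ A := inf_le_left
  have h1B : A ⊓ centralizer (U : Set G) ≤ B := fun a ha =>
    (hBmem a).2 ⟨ha.1, (mem_centralizer_iff.1 ha.2 n0 (X.VU hn)).symm⟩
  have hBne : B ≠ A := fun e => by
    have h1 : t ∈ B := by rw [e]; exact htA
    exact htn' (by rw [((hBmem t).1 h1).2]; group)
  -- `|A| ≤ 2 |B|`
  have hcA : Nat.card A ≤ 2 * Nat.card B := by
    classical
    have h1 : Nat.card A ≤ Nat.card Bool * Nat.card B := by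
      refine card_le_of_map (fun a => decide (a * n0 = n0 * a)) fun a ha a' ha' he => ?_
      have he' : (a * n0 = n0 * a) ↔ (a' * n0 = n0 * a') := decide_eq_decide.1 he
      refine (hBmem _).2 ⟨mul_mem (inv_mem ha) ha', ?_⟩
      by_cases hc : a * n0 = n0 * a
      · exact ((show Commute a n0 from hc).inv_left).mul_left (he'.1 hc)
      · have h2 : Commute (t⁻¹ * a) n0 := (hel a ha).resolve_left hc
        have h3 : Commute (t⁻¹ * a') n0 := (hel a' ha').resolve_left fun h => hc (he'.2 h)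
        have h4 := h2.inv_left.mul_left h3
        have e : (t⁻¹ * a)⁻¹ * (t⁻¹ * a') = a⁻¹ * a' := by group
        rw [e] at h4
        exact h4
    rwa [Nat.card_eq_fintype_card (α := Bool), Fintype.card_bool] at h1
  -- `2 |C_U(A)| ≤ |C_U(B)|`
  let f : Bool → G := fun b => if b then n0 else 1
  have hfU : ∀ b, f b ∈ U := fun b => by
    cases b
    · exact one_mem _
    · exact X.VU hn
  have hinj : ∀ b c b' c', c ∈ U → (∀ a ∈ A, a * c = c * a) → c' ∈ U → (∀ a ∈ A, a * c' = c' * a) →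
      f b * c = f b' * c' → b = b' ∧ c = c' := by
    intro b c b' c' hc hca hc' hca' e
    have key : ∀ c c' : G, (∀ a ∈ A, a * c = c * a) → (∀ a ∈ A, a * c' = c' * a) → n0 * c = c' → False := by
      intro c c' h1 h2 h3
      have h4 : Commute t (n0 * c) := by rw [h3]; exact h2 t htA
      have h5 : Commute t (n0 * c * c⁻¹) := h4.mul_right ((show Commute t c from h1 t htA).inv_right)
      rw [mul_inv_cancel_right] at h5
      exact htn' (by rw [h5.eq]; group)
    cases b <;> cases b'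
    · simp only [f] at e
      exact ⟨rfl, by simpa using e⟩
    · simp only [f] at e
      exact (key c' c hca' hca (by simpa using e.symm)).elim
    · simp only [f] at e
      exact (key c c' hca hca' (by simpa using e)).elim
    · simp only [f] at e
      exact ⟨rfl, by simpa using e⟩
  have hcU : 2 * Nat.card ↥(U ⊓ centralizer (A : Set G)) ≤ Nat.card ↥(U ⊓ centralizer (B : Set G)) := by
    have h2 : (2 : ℕ) = Nat.card Bool := by rw [Nat.card_eq_fintype_card, Fintype.card_bool]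
    rw [h2, ← Nat.card_prod]
    refine Nat.card_le_card_of_injective
      (fun p : Bool × ↥(U ⊓ centralizer (A : Set G)) =>
        (⟨f p.1 * p.2, mul_mem ⟨hfU _, ?_⟩ ?_⟩ : ↥(U ⊓ centralizer (B : Set G)))) fun p q e => ?_
    · refine mem_centralizer_iff.2 fun a ha => ?_
      cases p.1
      · simp [f]
      · simpa [f] using ((hBmem a).1 ha).2
    · exact ⟨p.2.2.1, mem_centralizer_iff.2 fun a ha => mem_centralizer_iff.1 p.2.2.2 a (hBA ha)⟩
    · have h1 := hinj p.1 p.2 q.1 q.2 p.2.2.1 (mem_centralizer_iff.1 p.2.2.2) q.2.2.1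
        (mem_centralizer_iff.1 q.2.2.2) (congrArg Subtype.val e)
      exact Prod.ext h1.1 (Subtype.ext h1.2)
  have hBU : B ≤ centralizer (U : Set G) := by
    refine X.toBFam.min_cut X.SU hA.1 h1B hBA hBne ?_
    calc Nat.card A * Nat.card ↥(U ⊓ centralizer (A : Set G)) ≤
        2 * Nat.card B * Nat.card ↥(U ⊓ centralizer (A : Set G)) := Nat.mul_le_mul_right _ hcA
      _ = Nat.card B * (2 * Nat.card ↥(U ⊓ centralizer (A : Set G))) := by ring
      _ ≤ _ := Nat.mul_le_mul_left _ hcU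
  have hUB : U ⊓ centralizer (B : Set G) = U := inf_eq_left.2 (le_centralizer_iff.1 hBU)
  have hUc : Nat.card U ≤ 2 * Nat.card ↥(U ⊓ centralizer (A : Set G)) := by
    have h1 := X.best A hA.1.1 B h1B hBA
    rw [hUB] at h1
    have hp : 0 < Nat.card B := Nat.card_pos
    refine Nat.le_of_mul_le_mul_left ?_ hp
    calc Nat.card B * Nat.card U ≤ Nat.card A * Nat.card ↥(U ⊓ centralizer (A : Set G)) := h1
      _ ≤ 2 * Nat.card B * Nat.card ↥(U ⊓ centralizer (A : Set G)) := Nat.mul_le_mul_right _ hcA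
      _ = _ := by ring
  have hfull : ∀ u ∈ U, (∀ a ∈ A, a * u = u * a) ∨ ∀ a ∈ A, a * (n0⁻¹ * u) = (n0⁻¹ * u) * a := by
    let F : Bool × ↥(U ⊓ centralizer (A : Set G)) → U := fun p => ⟨f p.1 * p.2, mul_mem (hfU _) p.2.2.1⟩
    have hF : Function.Injective F := fun p q e => by
      have h1 := hinj p.1 p.2 q.1 q.2 p.2.2.1 (mem_centralizer_iff.1 p.2.2.2) q.2.2.1
        (mem_centralizer_iff.1 q.2.2.2) (congrArg Subtype.val e)
      exact Prod.ext h1.1 (Subtype.ext h1.2)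
    have hb := hF.bijective_of_nat_card_le (by
      rw [Nat.card_prod, Nat.card_eq_fintype_card (α := Bool), Fintype.card_bool]
      exact hUc)
    intro u hu
    obtain ⟨⟨b, c⟩, hp⟩ := hb.2 ⟨u, hu⟩
    have hp' : f b * c = u := congrArg Subtype.val hp
    cases b
    · left
      have : u = c := by rw [← hp']; simp [f]
      rw [this]
      exact mem_centralizer_iff.1 c.2.2
    · right
      have : n0⁻¹ * u = c := by rw [← hp']; simp [f]
      rw [this]
      exact mem_centralizer_iff.1 c.2.2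
  refine ⟨i, x, y, t, n0, ⟨hxy, hx0, hy0, hAS, htA, htt, fun a ha => ?_, hn, hne, hfull,
    fun v hv => ⟨hcen v hv, fun he => ?_⟩, hfix⟩⟩
  · rcases hel a ha with h1 | h1
    · exact Or.inl (hBU ((hBmem a).2 ⟨ha, h1⟩))
    · exact Or.inr (hBU ((hBmem _).2 ⟨mul_mem (inv_mem htA) ha, h1⟩))
  · rcases hfull v (X.VU hv) with h1 | h1
    · exact h1
    · exfalso
      have h2 := hcen _ (mul_mem (inv_mem hn) hv) h1
      rw [M.mul _ (inv_mem hn) _ hv, h.e_inv hn, hne] at h2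
      simp only [Pi.add_apply] at h2
      rw [dl_self, dl_ne i hx0, dl_ne i (Ne.symm hxy), dl_ne i hy0, he, add_zero, add_zero, zero_add] at h2
      have h3 := add_right_cancel (h2.trans (zero_add _).symm)
      exact one_ne_zero h3

/-! ### `J` -/

/-- the elements of `P'` which act as families -/
def acG : Subgroup G where
  carrier := {g | g ∈ P' ∧ ∃ τ, Ac M g τ}
  mul_mem' := by
    rintro a b ⟨ha, x, hx⟩ ⟨hb, y, hy⟩
    exact ⟨mul_mem ha hb, x * y, h.ac_mul hb hx hy⟩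
  one_mem' := ⟨one_mem _, 1, ac_one⟩
  inv_mem' := by
    rintro a ⟨ha, x, hx⟩
    exact ⟨inv_mem ha, x⁻¹, h.ac_inv ha hx⟩

theorem acact [Finite G] {P U L : Subgroup G} {AA : Set (Subgroup G)} (X : BSit S P P' U V L AA) {g : G}
    (hg : g ∈ sSup AA) : g ∈ P' ∧ ∃ τ, Ac M g τ := by
  have h1 : sSup AA ≤ h.acG := by
    refine sSup_le fun A hA => ?_
    intro a ha
    refine ⟨h.SP' (X.le A hA ha), ?_⟩
    by_cases hc : A ≤ centralizer (V : Set G)
    · refine ⟨1, fun v hv i x => ?_, fun d hd => (mem_centralizer_iff.1 (hc ha) d (h.DV hd)).symm⟩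
      have e : a * v * a⁻¹ = v := by
        rw [← mem_centralizer_iff.1 (hc ha) v hv]
        group
      rw [e]
      rfl
    · obtain ⟨τ, hτ, -⟩ := off_elem X hA hc ha
      exact ⟨τ, hτ⟩
  exact h1 hg

/-- an element which centralises the preimage of `{x, y}^⊥` acts as `1` or as `(x y)` -/
theorem one_or {g : G} (hg : g ∈ P') {τ : Fin k → Equiv.Perm (Fin (2 ^ m + 1))} (hτ : Ac M g τ) {i : Fin k}
    {x y : Fin (2 ^ m + 1)} (hxy : x ≠ y) (hc : ∀ v ∈ V, M.e v i x = M.e v i y → g * v = v * g) :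
    τ = 1 ∨ τ = pr i x y := by
  -- pairs
  have key : ∀ l a b, a ≠ b → (l ≠ i ∨ (a ≠ x ∧ a ≠ y ∧ b ≠ x ∧ b ≠ y)) → τ l a = a ∨ τ l a = b := by
    intro l a b hab hl
    obtain ⟨v, hv, hve⟩ := exists_pair M l a b
    have h1 : M.e v i x = M.e v i y := by
      rw [hve, Pi.add_apply, Pi.add_apply, Pi.add_apply]
      rcases hl with hl | ⟨h1, h2, h3, h4⟩
      · rw [dl_ne' (Ne.symm hl), dl_ne' (Ne.symm hl)]
        rfl
      · by_cases hl : l = i
        · subst hl
          rw [dl_ne l (Ne.symm h1), dl_ne l (Ne.symm h2), dl_ne l (Ne.symm h3), dl_ne l (Ne.symm h4)]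
        · rw [dl_ne' (Ne.symm hl), dl_ne' (Ne.symm hl)]
          rfl
    have h2 := hτ.1 v hv l a
    have h3 : g * v * g⁻¹ = v := by rw [hc v hv h1]; group
    rw [h3, hve, Equiv.Perm.one_apply, Pi.add_apply, Pi.add_apply, Pi.add_apply, dl_self, dl_ne l hab, add_zero] at h2
    by_contra hne
    push Not at hne
    rw [dl_ne l hne.1, dl_ne l hne.2, add_zero] at h2
    exact zero_ne_one h2
  have key2 : ∀ l a, (l ≠ i ∨ (a ≠ x ∧ a ≠ y)) → τ l a = a := by
    intro l a hl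
    obtain ⟨b, c, hbc, hbx, hby, hba, hcx, hcy, hca⟩ := h.exists_ne x y a
    have h1 := key l a b (Ne.symm hba) (hl.imp id fun h => ⟨h.1, h.2, hbx, hby⟩)
    have h2 := key l a c (Ne.symm hca) (hl.imp id fun h => ⟨h.1, h.2, hcx, hcy⟩)
    rcases h1 with h1 | h1
    · exact h1
    · rcases h2 with h2 | h2
      · exact h2
      · exact absurd (h1.symm.trans h2) hbc
  have hxy' : ∀ a, a = x ∨ a = y → τ i a = x ∨ τ i a = y := by
    intro a ha
    by_contra hne
    push Not at hne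
    have h1 := key2 i (τ i a) (Or.inr hne)
    have h2 := (τ i).injective h1
    rcases ha with rfl | rfl
    · exact hne.1 h2
    · exact hne.2 h2
  have hx := hxy' x (Or.inl rfl)
  have hy := hxy' y (Or.inr rfl)
  rcases hx with hx | hx
  · left
    have hy' : τ i y = y := by
      rcases hy with hy | hy
      · exact absurd ((τ i).injective (hx.trans hy.symm)) hxy
      · exact hy
    funext l
    ext1 a
    by_cases hl : l = i
    · subst hl
      by_cases hax : a = x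
      · rw [hax, hx]; rfl
      · by_cases hay : a = y
        · rw [hay, hy']; rfl
        · exact key2 l a (Or.inr ⟨hax, hay⟩)
    · exact key2 l a (Or.inl hl)
  · right
    have hy' : τ i y = x := by
      rcases hy with hy | hy
      · exact hy
      · exact absurd ((τ i).injective (hx.trans hy.symm)) hxy
    funext l
    ext1 a
    by_cases hl : l = i
    · subst hl
      rw [pr, sg_self]
      by_cases hax : a = x
      · rw [hax, hx, Equiv.swap_apply_left]
      · by_cases hay : a = y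
        · rw [hay, hy', Equiv.swap_apply_right]
        · rw [Equiv.swap_apply_of_ne_of_ne hax hay]
          exact key2 l a (Or.inr ⟨hax, hay⟩)
    · rw [pr, sg_ne hl]
      exact key2 l a (Or.inl hl)

/-- `[V, A] = {1, [t, n0]}` -/
theorem comm_one {U A : Subgroup G} {i : Fin k} {x y : Fin (2 ^ m + 1)} {t n0 : G} (O : OneS M U A i x y t n0)
    (VU : V ≤ U) {z : G} (hz : z ∈ ⁅V, A⁆) : z = 1 ∨ z = t * n0 * t⁻¹ * n0⁻¹ := by
  have htP := h.SP' (O.AS O.tA)
  have hm : t * n0 * t⁻¹ * n0⁻¹ ∈ V := mul_mem (h.memV htP O.nV) (inv_mem O.nV)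
  set w := t * n0 * t⁻¹ * n0⁻¹ with hw
  let K : Subgroup G :=
    { carrier := {y | y = 1 ∨ y = w}
      mul_mem' := by
        rintro b c (rfl | rfl) (rfl | rfl)
        · left; rw [mul_one]
        · right; rw [one_mul]
        · right; rw [mul_one]
        · left; exact h.sq hm
      one_mem' := Or.inl rfl
      inv_mem' := by
        rintro b (rfl | rfl)
        · left; rw [inv_one]
        · right; exact h.inv_eq hm }
  have h1 : ⁅V, A⁆ ≤ K := comm_le fun v hv a ha => by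
    have e : v * a * v⁻¹ * a⁻¹ = (a * v * a⁻¹ * v⁻¹)⁻¹ := by group
    rw [e]
    refine inv_mem (show a * v * a⁻¹ * v⁻¹ ∈ K from ?_)
    rcases O.act a ha with h1 | h1
    · left
      rw [← mem_centralizer_iff.1 h1 v (VU hv)]
      group
    · have h2 := mem_centralizer_iff.1 h1 v (VU hv)
      have e2 : a * v * a⁻¹ * v⁻¹ = t * v * t⁻¹ * v⁻¹ := by
        calc a * v * a⁻¹ * v⁻¹ = t * (t⁻¹ * a * v) * a⁻¹ * v⁻¹ := by group
          _ = t * (v * (t⁻¹ * a)) * a⁻¹ * v⁻¹ := by rw [h2]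
          _ = _ := by group
      rw [e2]
      rcases O.full v (VU hv) with h3 | h3
      · left
        rw [h3 t O.tA]
        group
      · right
        have h4 := h3 t O.tA
        have h5 : v * n0⁻¹ = n0⁻¹ * v := h.cm hv (inv_mem O.nV)
        calc t * v * t⁻¹ * v⁻¹ = t * n0 * (n0⁻¹ * v) * t⁻¹ * v⁻¹ := by group
          _ = t * n0 * (t⁻¹ * (t * (n0⁻¹ * v))) * t⁻¹ * v⁻¹ := by group
          _ = t * n0 * (t⁻¹ * ((n0⁻¹ * v) * t)) * t⁻¹ * v⁻¹ := by rw [h4]
          _ = t * n0 * t⁻¹ * (n0⁻¹ * v) * v⁻¹ := by group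
          _ = w := by rw [hw]; group
  exact h1 hz

theorem e_nxy {U A : Subgroup G} {i : Fin k} {x y : Fin (2 ^ m + 1)} {t n0 : G} (O : OneS M U A i x y t n0) :
    t * n0 * t⁻¹ * n0⁻¹ ∈ V ∧ M.e (t * n0 * t⁻¹ * n0⁻¹) = dl i x + dl i y := by
  have htP := h.SP' (O.AS O.tA)
  refine ⟨mul_mem (h.memV htP O.nV) (inv_mem O.nV), ?_⟩
  rw [h.e_div (h.memV htP O.nV) O.nV, e_pair O.tt.1 O.nV O.en, pr, sg_self, Equiv.swap_apply_left,
    Equiv.swap_apply_of_ne_of_ne (Ne.symm O.x0) (Ne.symm O.y0), O.en]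
  have : dl i y + dl i 0 + (dl i x + dl i 0) = (dl i x + dl i y) + (dl i 0 + dl i 0) := by abel
  rw [this, add_self2, add_zero]

/-- an element which fixes `x, y, 0` centralises `[t, n0]` -/
theorem fix_nxy {U A : Subgroup G} {i : Fin k} {x y : Fin (2 ^ m + 1)} {t n0 : G} (O : OneS M U A i x y t n0)
    {g : G} (hg : g ∈ P') {τ : Fin k → Equiv.Perm (Fin (2 ^ m + 1))} (hτ : Ac M g τ) (hx : τ i x = x) (hy : τ i y = y)
    (h0 : τ i 0 = 0) : Commute g (t * n0 * t⁻¹ * n0⁻¹) := by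
  have htP := h.SP' (O.AS O.tA)
  have h1 := O.fix g hg τ hτ hx hy h0
  have h2 := h.swap hg htP hτ O.tt (pr_comm hx hy) O.nV
  have h3 : g * n0 * g⁻¹ = n0 := by rw [h1]; group
  rw [h3] at h2
  have h4 : Commute g (t * n0 * t⁻¹) := mul_inv_eq_iff_eq_mul.1 h2
  exact h4.mul_right ((show Commute g n0 from h1).inv_right)

theorem t_nxy {U A : Subgroup G} {i : Fin k} {x y : Fin (2 ^ m + 1)} {t n0 : G} (O : OneS M U A i x y t n0) :
    Commute t (t * n0 * t⁻¹ * n0⁻¹) := by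
  have htP := h.SP' (O.AS O.tA)
  have h1 := h.ac_mul htP O.tt O.tt
  have e : pr i x y * pr i x y = 1 := by
    rw [pr, ← sg_mul, Equiv.swap_mul_self, sg_one]
  rw [e] at h1
  have h2 := h.comm_of_one (mul_mem htP htP) h1 O.nV
  have hm := (h.e_nxy O).1
  -- `t [t, n0] t⁻¹ = [t, n0]⁻¹`
  have h3 : t * (t * n0 * t⁻¹ * n0⁻¹) * t⁻¹ = (t * n0 * t⁻¹ * n0⁻¹)⁻¹ := by
    calc t * (t * n0 * t⁻¹ * n0⁻¹) * t⁻¹ = (t * t * n0) * t⁻¹ * n0⁻¹ * t⁻¹ := by group
      _ = (n0 * (t * t)) * t⁻¹ * n0⁻¹ * t⁻¹ := by rw [h2]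
      _ = (t * n0 * t⁻¹ * n0⁻¹)⁻¹ := by group
  rw [h.inv_eq hm] at h3
  exact mul_inv_eq_iff_eq_mul.1 h3

/-- **`J` centralises `[V, A]`** -/
theorem J_comm [Finite G] {P U L : Subgroup G} {AA : Set (Subgroup G)} (X : BSit S P P' U V L AA)
    {A : Subgroup G} {i : Fin k} {x y : Fin (2 ^ m + 1)} {t n0 : G} (O : OneS M U A i x y t n0) {g : G}
    (hg : g ∈ sSup AA) : Commute g (t * n0 * t⁻¹ * n0⁻¹) := by
  have h1 : sSup AA ≤ centralizer ({t * n0 * t⁻¹ * n0⁻¹} : Set G) := by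
    refine sSup_le fun B hB => ?_
    intro b hb
    rw [mem_centralizer_singleton_iff]
    by_cases hc : B ≤ centralizer (V : Set G)
    · exact (mem_centralizer_iff.1 (hc hb) _ (h.e_nxy O).1).symm
    · obtain ⟨τ, hτ, h0, hτ'⟩ := off_elem X hB hc hb
      have hbP := h.SP' (X.le B hB hb)
      have htP := h.SP' (O.AS O.tA)
      rcases h.keep X hB hτ' (O.AS O.tA) O.xy O.tt.1 with ⟨h1, h2⟩ | ⟨h1, h2⟩
      · exact h.fix_nxy O hbP hτ h1 h2 (h0 i)
      · have h3 := h.ac_mul hbP (h.ac_inv htP O.tt) hτ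
        have e : ((pr i x y)⁻¹ * τ) i = Equiv.swap x y * τ i := by
          rw [Pi.mul_apply, Pi.inv_apply, pr, sg_self, Equiv.swap_inv]
        have h4 := h.fix_nxy O (mul_mem (inv_mem htP) hbP) h3
          (by rw [e, Equiv.Perm.mul_apply, h1, Equiv.swap_apply_right])
          (by rw [e, Equiv.Perm.mul_apply, h2, Equiv.swap_apply_left])
          (by rw [e, Equiv.Perm.mul_apply, h0 i, Equiv.swap_apply_of_ne_of_ne (Ne.symm O.x0) (Ne.symm O.y0)])
        have h5 := (h.t_nxy O).mul_left h4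
        rw [mul_inv_cancel_left] at h5
        exact h5
  exact mem_centralizer_singleton_iff.1 (h1 hg)

/-- **the family of `THEOREM B`** -/
theorem fam [Finite G] {P U L : Subgroup G} {AA : Set (Subgroup G)}
    (X : BSit S P P' U V L AA) : Fam S P P' U V (sSup AA) (DM U AA) := by
  refine X.fam (fun A hA u hu => ?_) (fun A hA g hg hc => ?_) (fun A hA z hz g hg => ?_)
  · obtain ⟨i, x, y, t, n0, O⟩ := h.one X hA
    rcases O.full u hu with h1 | h1
    · exact ⟨1, one_mem _, u, hu, h1, (one_mul _).symm⟩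
    · exact ⟨n0, O.nV, n0⁻¹ * u, mul_mem (inv_mem (X.VU O.nV)) hu, h1, by group⟩
  · obtain ⟨i, x, y, t, n0, O⟩ := h.one X hA
    obtain ⟨hgP, τ, hτ⟩ := h.acact X hg
    have htP := h.SP' (O.AS O.tA)
    rcases h.one_or hgP hτ O.xy fun v hv he => hc v hv ((O.cen v hv).2 he) with h1 | h1
    · rw [h1] at hτ
      refine ⟨1, one_mem _, fun v hv => ?_⟩
      rw [h.comm_of_one hgP hτ hv]
      group
    · rw [h1] at hτ
      exact ⟨t, O.tA, fun v hv => h.same hgP htP hτ O.tt hv⟩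
  · obtain ⟨i, x, y, t, n0, O⟩ := h.one X hA
    rcases h.comm_one O X.VU hz with h1 | h1
    · rw [h1, mul_one, one_mul]
    · rw [h1]
      exact h.J_comm X O hg

end Sb

end Cfsg.Agent.Omega.NO3S.ThmB
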