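import Cfsg.Agent.Omega.NO3S.ThmB.NatFam

/-!
# THEOREM B: even-subset modules for `P'`, the action on `V`

`M : SymKM S P' V D k m`, `m ≥ 2`, and an element of `P'` which is trivial on `V / D` and on `D` is trivial on `V`
(`Sb`).

* `Sb.cc` : commuting elements;
* `Sb.disj` : two transpositions of `S` with a common point are equal;
* `Sb.nx` : `t ∈ S` acts as the transposition `(x y)` of the `i`-th summand: there is `n0 ∈ V` with `e n0 = {x, 0}`
  which is centralised by all elements which fix `x, y, 0`.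
-/

set_option autoImplicit false

namespace Cfsg.Agent.Omega.NO3S.ThmB

open Subgroup Cfsg Cfsg.Agent.ZN Cfsg.Agent.ZN.ChoiceBase
open Cfsg.Agent.Omega.FFThm

universe u

section vec

variable {k n : ℕ}

/-- the characteristic function of the point `a` of the `i`-th summand -/
def dl (i : Fin k) (a : Fin n) : Fin k → Fin n → ZMod 2 := fun l z => if l = i ∧ z = a then 1 else 0

theorem dl_self (i : Fin k) (a : Fin n) : dl i a i a = 1 := by simp [dl]

theorem dl_ne (i : Fin k) {a z : Fin n} (h : z ≠ a) (l : Fin k) : dl i a l z = 0 := by simp [dl, h]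

theorem dl_ne' {i l : Fin k} (h : l ≠ i) (a : Fin n) : dl i a l = 0 := by
  funext z
  simp [dl, h]

theorem dl_sum (i l : Fin k) (a : Fin n) : ∑ z, dl i a l z = if l = i then 1 else 0 := by
  by_cases h : l = i
  · simp [dl, h]
  · simp [dl, h]

theorem add_self2 (x : Fin k → Fin n → ZMod 2) : x + x = 0 := by
  funext i j
  exact CharTwo.add_self_eq_zero _

theorem pinv (p : Equiv.Perm (Fin n)) (x : Fin n) : p (p⁻¹ x) = x := by
  rw [← Equiv.Perm.mul_apply, mul_inv_cancel, Equiv.Perm.one_apply]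

/-- the transposition `(x y)` of the `i`-th summand -/
def pr (i : Fin k) (x y : Fin n) : Fin k → Equiv.Perm (Fin n) := sg i (Equiv.swap x y)

end vec

variable {G : Type u} [Group G] {S P' V D : Subgroup G} {k m : ℕ}

/-- `g` acts as the family `τ` and centralises `D` -/
def Ac (M : SymKM S P' V D k m) (g : G) (τ : Fin k → Equiv.Perm (Fin (2 ^ m + 1))) : Prop :=
  ActsSym M.e V g 1 τ ∧ ∀ d ∈ D, g * d = d * g

/-- the block of `P'` -/
structure Sb (M : SymKM S P' V D k m) : Prop where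
  m2 : 2 ≤ m
  S2 : IsPGroup 2 S
  SP' : S ≤ P'
  V2 : IsElementaryAbelian 2 V
  VP' : P' ≤ normalizer (V : Set G)
  DV : D ≤ V
  DP' : P' ≤ normalizer (D : Set G)
  triv : ∀ g ∈ P', (∀ v ∈ V, M.e (g * v * g⁻¹) = M.e v) → (∀ d ∈ D, g * d = d * g) → ∀ v ∈ V, g * v = v * g

namespace Sb

variable {M : SymKM S P' V D k m} (h : Sb M)

include h

theorem five : 5 ≤ 2 ^ m + 1 := by
  have h1 : 2 ^ 2 ≤ 2 ^ m := Nat.pow_le_pow_right (by norm_num) h.m2
  omega

theorem cm {v w : G} (hv : v ∈ V) (hw : w ∈ V) : v * w = w * v := elem_comm h.V2 hv hw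

theorem sq {v : G} (hv : v ∈ V) : v * v = 1 := by
  have := h.V2.2 v hv
  rwa [pow_two] at this

theorem inv_eq {v : G} (hv : v ∈ V) : v⁻¹ = v := inv_eq_of_mul_eq_one_left (h.sq hv)

omit h in
theorem e_one : M.e 1 = 0 := by
  have h1 := M.mul 1 (one_mem _) 1 (one_mem _)
  rw [one_mul] at h1
  exact left_eq_add.1 h1

theorem e_inv {v : G} (hv : v ∈ V) : M.e v⁻¹ = M.e v := by rw [h.inv_eq hv]

theorem memV {g v : G} (hg : g ∈ P') (hv : v ∈ V) : g * v * g⁻¹ ∈ V := conj_mem h.VP' hg hv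

theorem e_div {v w : G} (hv : v ∈ V) (hw : w ∈ V) : M.e (v * w⁻¹) = M.e v + M.e w := by
  rw [M.mul v hv _ (inv_mem hw), h.e_inv hw]

theorem mem_D {v w : G} (hv : v ∈ V) (hw : w ∈ V) : v * w⁻¹ ∈ D ↔ M.e v = M.e w := by
  rw [← M.ker _ (mul_mem hv (inv_mem hw)), h.e_div hv hw]
  constructor
  · intro h1
    have h2 := congrArg (· + M.e w) h1
    simp only [add_assoc, add_self2, add_zero, zero_add] at h2
    exact h2
  · intro h1
    rw [h1, add_self2]

omit h in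
/-- an element of `V` for a pair of points -/
theorem exists_pair (M : SymKM S P' V D k m) (i : Fin k) (a b : Fin (2 ^ m + 1)) :
    ∃ v ∈ V, M.e v = dl i a + dl i b := by
  refine M.surj _ fun l => ?_
  have h1 : ∑ z, (dl i a + dl i b) l z = ∑ z, (dl i a l z + dl i b l z) := rfl
  rw [h1, Finset.sum_add_distrib, dl_sum, dl_sum]
  exact CharTwo.add_self_eq_zero _

omit h in
theorem ac_e {g : G} {τ : Fin k → Equiv.Perm (Fin (2 ^ m + 1))} (hA : ActsSym M.e V g 1 τ) {v : G} (hv : v ∈ V)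
    (i : Fin k) (x : Fin (2 ^ m + 1)) : M.e (g * v * g⁻¹) i x = M.e v i ((τ i)⁻¹ x) := by
  have h1 := hA v hv i ((τ i)⁻¹ x)
  rw [Equiv.Perm.one_apply, pinv] at h1
  exact h1

theorem ac_mul {g x : G} {A B : Fin k → Equiv.Perm (Fin (2 ^ m + 1))} (hx : x ∈ P') (hA : Ac M g A) (hB : Ac M x B) :
    Ac M (g * x) (A * B) := by
  refine ⟨fun v hv i z => ?_, fun d hd => ?_⟩
  · have e1 : g * x * v * (g * x)⁻¹ = g * (x * v * x⁻¹) * g⁻¹ := by group
    have h1 := hA.1 _ (h.memV hx hv) i (B i z)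
    have h2 := hB.1 v hv i z
    rw [e1, Pi.mul_apply, Equiv.Perm.mul_apply]
    exact h1.trans h2
  · exact (show Commute g d from hA.2 d hd).mul_left (hB.2 d hd)

theorem ac_inv {g : G} {A : Fin k → Equiv.Perm (Fin (2 ^ m + 1))} (hg : g ∈ P') (hA : Ac M g A) : Ac M g⁻¹ A⁻¹ := by
  refine ⟨fun v hv i z => ?_, fun d hd => ?_⟩
  · have h1 := hA.1 _ (h.memV (inv_mem hg) hv) i ((A i)⁻¹ z)
    have e1 : g * (g⁻¹ * v * g⁻¹⁻¹) * g⁻¹ = v := by group
    rw [e1, Equiv.Perm.one_apply, pinv] at h1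
    exact h1.symm
  · exact (show Commute g d from hA.2 d hd).inv_left

omit h in
theorem ac_one : Ac M 1 1 := by
  refine ⟨fun v _ i z => ?_, fun d _ => by rw [one_mul, mul_one]⟩
  rw [one_mul, inv_one, mul_one]
  rfl

omit h in
theorem ac_e_one {g : G} (hA : ActsSym M.e V g 1 1) {v : G} (hv : v ∈ V) : M.e (g * v * g⁻¹) = M.e v := by
  funext i z
  exact hA v hv i z

theorem comm_of_one {g : G} (hg : g ∈ P') (hA : Ac M g 1) {v : G} (hv : v ∈ V) : g * v = v * g :=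
  h.triv g hg (fun _ hw => ac_e_one hA.1 hw) hA.2 v hv

theorem same {g x : G} {A : Fin k → Equiv.Perm (Fin (2 ^ m + 1))} (hg : g ∈ P') (hx : x ∈ P')
    (hA : Ac M g A) (hB : Ac M x A) {v : G} (hv : v ∈ V) : g * v * g⁻¹ = x * v * x⁻¹ := by
  have h1 := h.ac_mul hg (h.ac_inv hx hB) hA
  rw [inv_mul_cancel] at h1
  have h2 := h.comm_of_one (mul_mem (inv_mem hx) hg) h1 hv
  calc g * v * g⁻¹ = x * (x⁻¹ * g * v) * g⁻¹ := by group
    _ = x * (v * (x⁻¹ * g)) * g⁻¹ := by rw [h2]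
    _ = x * v * x⁻¹ := by group

/-- commuting families: `g` and `x` commute on `V` -/
theorem swap {g x : G} {A B : Fin k → Equiv.Perm (Fin (2 ^ m + 1))} (hg : g ∈ P') (hx : x ∈ P')
    (hA : Ac M g A) (hB : Ac M x B) (hAB : A * B = B * A) {v : G} (hv : v ∈ V) :
    g * (x * v * x⁻¹) * g⁻¹ = x * (g * v * g⁻¹) * x⁻¹ := by
  have h1 := h.ac_mul hx hA hB
  have h2 := h.ac_mul hg hB hA
  rw [← hAB] at h2
  have h3 := h.same (mul_mem hg hx) (mul_mem hx hg) h1 h2 hv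
  calc g * (x * v * x⁻¹) * g⁻¹ = g * x * v * (g * x)⁻¹ := by group
    _ = x * g * v * (x * g)⁻¹ := h3
    _ = x * (g * v * g⁻¹) * x⁻¹ := by group

/-- `g` commutes with `c`, and fixes `w D`: it centralises `[c, w]` -/
theorem cc {g c w : G} {A B : Fin k → Equiv.Perm (Fin (2 ^ m + 1))} (hg : g ∈ P') (hc : c ∈ P')
    (hA : Ac M g A) (hB : Ac M c B) (hAB : A * B = B * A) (hw : w ∈ V) (hgw : M.e (g * w * g⁻¹) = M.e w) :
    g * (c * w * c⁻¹ * w⁻¹) = (c * w * c⁻¹ * w⁻¹) * g := by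
  have h1 : g * w * g⁻¹ * w⁻¹ ∈ D := by rwa [h.mem_D (h.memV hg hw) hw]
  have h2 := hB.2 _ h1
  have h3 := h.swap hg hc hA hB hAB hw
  have h4 : g * (c * w * c⁻¹) * g⁻¹ = (g * w * g⁻¹ * w⁻¹) * (c * w * c⁻¹) := by
    rw [h3]
    calc c * (g * w * g⁻¹) * c⁻¹ = (c * (g * w * g⁻¹ * w⁻¹)) * w * c⁻¹ := by group
      _ = (g * w * g⁻¹ * w⁻¹ * c) * w * c⁻¹ := by rw [h2]
      _ = _ := by group
  have h5 : g * (c * w * c⁻¹ * w⁻¹) * g⁻¹ = c * w * c⁻¹ * w⁻¹ := by
    calc g * (c * w * c⁻¹ * w⁻¹) * g⁻¹ = (g * (c * w * c⁻¹) * g⁻¹) * (g * w * g⁻¹)⁻¹ := by group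
      _ = (g * w * g⁻¹ * w⁻¹) * (c * w * c⁻¹) * (g * w * g⁻¹)⁻¹ := by rw [h4]
      _ = (c * w * c⁻¹) * (g * w * g⁻¹ * w⁻¹) * (g * w * g⁻¹)⁻¹ := by
        rw [h.cm (h.DV h1) (h.memV hc hw)]
      _ = (c * w * c⁻¹) * ((g * w * g⁻¹) * w⁻¹ * (g * w * g⁻¹)⁻¹) := by group
      _ = (c * w * c⁻¹) * (w⁻¹ * (g * w * g⁻¹) * (g * w * g⁻¹)⁻¹) := by
        rw [h.cm (h.memV hg hw) (inv_mem hw)]
      _ = c * w * c⁻¹ * w⁻¹ := by group
  exact mul_inv_eq_iff_eq_mul.1 h5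

omit h in
/-- the action on a pair -/
theorem e_pair {g : G} {τ : Fin k → Equiv.Perm (Fin (2 ^ m + 1))} (hA : ActsSym M.e V g 1 τ) {v : G} (hv : v ∈ V)
    {i : Fin k} {a b : Fin (2 ^ m + 1)} (he : M.e v = dl i a + dl i b) :
    M.e (g * v * g⁻¹) = dl i (τ i a) + dl i (τ i b) := by
  funext l z
  rw [ac_e hA hv l z, he, Pi.add_apply, Pi.add_apply, Pi.add_apply, Pi.add_apply]
  by_cases hl : l = i
  · subst hl
    simp only [dl, true_and]
    simp only [Equiv.Perm.inv_eq_iff_eq]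
  · rw [dl_ne' hl, dl_ne' hl, dl_ne' hl, dl_ne' hl]
    simp

/-- three points different from two given ones -/
theorem exists_ne (x y : Fin (2 ^ m + 1)) (z : Fin (2 ^ m + 1)) :
    ∃ a b : Fin (2 ^ m + 1), a ≠ b ∧ a ≠ x ∧ a ≠ y ∧ a ≠ z ∧ b ≠ x ∧ b ≠ y ∧ b ≠ z := by
  classical
  have h5 := h.five
  have h1 : ∃ a : Fin (2 ^ m + 1), a ∉ ({x, y, z} : Finset (Fin (2 ^ m + 1))) := by
    by_contra hc
    push Not at hc
    have h2 : (Finset.univ : Finset (Fin (2 ^ m + 1))) ⊆ {x, y, z} := fun a _ => hc a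
    have h3 := Finset.card_le_card h2
    have h4 : ({x, y, z} : Finset (Fin (2 ^ m + 1))).card ≤ 3 := Finset.card_le_three
    rw [Finset.card_univ, Fintype.card_fin] at h3
    omega
  obtain ⟨a, ha⟩ := h1
  have h1 : ∃ b : Fin (2 ^ m + 1), b ∉ ({a, x, y, z} : Finset (Fin (2 ^ m + 1))) := by
    by_contra hc
    push Not at hc
    have h2 : (Finset.univ : Finset (Fin (2 ^ m + 1))) ⊆ {a, x, y, z} := fun a _ => hc a
    have h3 := Finset.card_le_card h2
    have h4 : ({a, x, y, z} : Finset (Fin (2 ^ m + 1))).card ≤ 4 := Finset.card_le_four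
    rw [Finset.card_univ, Fintype.card_fin] at h3
    omega
  obtain ⟨b, hb⟩ := h1
  simp only [Finset.mem_insert, Finset.mem_singleton, not_or] at ha hb
  exact ⟨a, b, Ne.symm hb.1, ha.1, ha.2.1, ha.2.2, hb.2.1, hb.2.2.1, hb.2.2.2⟩

/-- a family of permutations which is trivial on `V / D` is trivial -/
theorem faith {τ : Fin k → Equiv.Perm (Fin (2 ^ m + 1))} (hA : ActsSym M.e V 1 1 τ) : τ = 1 := by
  funext i
  ext1 a
  by_contra hne
  have hne' : τ i a ≠ a := hne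
  obtain ⟨b, -, -, hb1, hb2, -⟩ := h.exists_ne a (τ i a) a
  obtain ⟨v, hv, hve⟩ := exists_pair M i a b
  have h1 := hA v hv i a
  rw [one_mul, inv_one, mul_one, hve, Equiv.Perm.one_apply, Pi.add_apply, Pi.add_apply, Pi.add_apply,
    dl_ne i hne', dl_ne i (Ne.symm hb2), dl_self, dl_ne i (Ne.symm hb1), add_zero, add_zero] at h1
  exact zero_ne_one h1

/-- **two transpositions of `S` with a common point are equal** -/
theorem disj {t b : G} (ht : t ∈ S) (hb : b ∈ S) {i : Fin k} {x y z : Fin (2 ^ m + 1)} (hxy : y ≠ x) (hxz : z ≠ x)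
    (htA : ActsSym M.e V t 1 (pr i x y)) (hbA : ActsSym M.e V b 1 (pr i x z)) : y = z := by
  by_contra hyz
  have hpow : ∀ j : ℕ, ActsSym M.e V ((t * b) ^ j) 1 ((pr i x y * pr i x z) ^ j) := by
    intro j
    induction j with
    | zero =>
      intro v hv l z'
      rw [pow_zero, pow_zero, one_mul, inv_one, mul_one]
      rfl
    | succ j ih =>
      intro v hv l z'
      have hbv := h.memV (h.SP' hb) hv
      have htv := h.memV (h.SP' ht) hbv
      have e1 : (t * b) ^ (j + 1) * v * ((t * b) ^ (j + 1))⁻¹ =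
          (t * b) ^ j * (t * (b * v * b⁻¹) * t⁻¹) * ((t * b) ^ j)⁻¹ := by
        rw [pow_succ]; group
      rw [e1, pow_succ, Pi.mul_apply, Equiv.Perm.mul_apply]
      have h1 := ih _ htv l ((pr i x y * pr i x z) l z')
      have h2 := htA _ hbv l (pr i x z l z')
      have h3 := hbA v hv l z'
      exact h1.trans (h2.trans h3)
  obtain ⟨j, hj⟩ := h.S2 ⟨t * b, mul_mem ht hb⟩
  have hj' : (t * b) ^ 2 ^ j = 1 := congrArg Subtype.val hj
  have h1 := hpow (2 ^ j)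
  rw [hj'] at h1
  have h2 := congrFun (h.faith h1) i
  have h3 : (Equiv.swap x y * Equiv.swap x z) ^ 2 ^ j = 1 := by
    have e : (pr i x y * pr i x z) = sg i (Equiv.swap x y * Equiv.swap x z) := (sg_mul _ _ _).symm
    rw [Pi.pow_apply, e, sg_self] at h2
    exact h2
  have h4 : (Equiv.swap x y * Equiv.swap x z) ^ 3 = 1 := by
    have h5 : (Equiv.swap x y * Equiv.swap x z).IsThreeCycle :=
      Equiv.Perm.isThreeCycle_swap_mul_swap_same (Ne.symm hxy) (Ne.symm hxz) hyz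
    have := h5.orderOf
    rw [← this]
    exact pow_orderOf_eq_one _
  have h5 : Equiv.swap x y * Equiv.swap x z = 1 := by
    have h6 : orderOf (Equiv.swap x y * Equiv.swap x z) ∣ Nat.gcd (2 ^ j) 3 :=
      Nat.dvd_gcd (orderOf_dvd_of_pow_eq_one h3) (orderOf_dvd_of_pow_eq_one h4)
    have h7 : Nat.gcd (2 ^ j) 3 = 1 := Nat.Coprime.pow_left j (by norm_num)
    rw [h7, Nat.dvd_one] at h6
    exact orderOf_eq_one_iff.1 h6
  have h6 := Equiv.congr_fun h5 z
  rw [Equiv.Perm.mul_apply, Equiv.swap_apply_right, Equiv.swap_apply_left] at h6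
  exact hyz h6

omit h in
theorem pr_comm {τ : Fin k → Equiv.Perm (Fin (2 ^ m + 1))} {i : Fin k} {x y : Fin (2 ^ m + 1)} (hx : τ i x = x)
    (hy : τ i y = y) : τ * pr i x y = pr i x y * τ := by
  funext l
  rw [Pi.mul_apply, Pi.mul_apply]
  by_cases hl : l = i
  · subst hl
    rw [pr, sg_self, Equiv.mul_swap_eq_swap_mul, hx, hy]
  · rw [pr, sg_ne hl, one_mul, mul_one]

/-- the element `n0` -/
theorem nx {i : Fin k} {x y : Fin (2 ^ m + 1)} (hxy : x ≠ y) (hx0 : x ≠ 0) (hy0 : y ≠ 0) :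
    ∃ n0 ∈ V, M.e n0 = dl i x + dl i 0 ∧ ∀ g ∈ P', ∀ τ : Fin k → Equiv.Perm (Fin (2 ^ m + 1)), Ac M g τ →
      τ i x = x → τ i y = y → τ i 0 = 0 → g * n0 = n0 * g := by
  obtain ⟨w, hw, hwe⟩ := exists_pair M i x y
  obtain ⟨r, hr, hrA⟩ := M.lift (pr i x y * pr i y 0)
  have hre : M.e (r * w * r⁻¹) = dl i y + dl i 0 := by
    rw [e_pair hrA.1 hw hwe]
    have e : (pr i x y * pr i y 0) i = Equiv.swap x y * Equiv.swap y 0 := by
      rw [Pi.mul_apply, pr, pr, sg_self, sg_self]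
    rw [e, Equiv.Perm.mul_apply, Equiv.Perm.mul_apply, Equiv.swap_apply_of_ne_of_ne hxy hx0, Equiv.swap_apply_left,
      Equiv.swap_apply_left, Equiv.swap_apply_of_ne_of_ne (Ne.symm hx0) (Ne.symm hy0)]
  refine ⟨r * w * r⁻¹ * w⁻¹, mul_mem (h.memV hr hw) (inv_mem hw), ?_, fun g hg τ hA hx hy h0 => ?_⟩
  · rw [h.e_div (h.memV hr hw) hw, hre, hwe]
    have : dl i y + dl i 0 + (dl i x + dl i y) = (dl i x + dl i 0) + (dl i y + dl i y) := by abel
    rw [this, add_self2, add_zero]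
  · refine h.cc hg hr hA hrA ?_ hw ?_
    · rw [← mul_assoc, pr_comm hx hy, mul_assoc, pr_comm hy h0, ← mul_assoc]
    · rw [e_pair hA.1 hw hwe, hx, hy, hwe]

end Sb

end Cfsg.Agent.Omega.NO3S.ThmB
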