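import Cfsg.Agent.Omega.NO3S.ThmB.Fix

/-!
# THEOREM B, (7): `N_P(S)` transitive on `Z#`

If `N_P(S)` is transitive on `Z#`, then `P` permutes the groups `[V, B]`, `B ∈ DD` not centralising `V`, and `Z` is
contained in their product `M1`.
-/

set_option autoImplicit false

namespace Cfsg.Agent.Omega.NO3S.ThmB

open Subgroup Cfsg Cfsg.Agent.ZN Cfsg.Agent.ZN.ChoiceBase

universe u

variable {G : Type u} [Group G]

/-- the product of the groups `[V, B]` -/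
def M1 (V : Subgroup G) (DD : Set (Subgroup G)) : Subgroup G := closure {x | ∃ B, Fr V DD B ∧ x ∈ ⁅V, B⁆}

/-- `x` is centralised by `KK` -/
def CK (P' V : Subgroup G) (DD : Set (Subgroup G)) : Subgroup G := centralizer ((KK P' V DD : Subgroup G) : Set G)

/-- The hypotheses of (7). -/
structure TrHyp (S P P' U V : Subgroup G) (DD : Set (Subgroup G)) (Z : Subgroup G) : Prop where
  fx : ∀ M : Subgroup G, M ≤ U → S ≤ normalizer (M : Set G) → M ≠ ⊥ → ∃ z ∈ M, z ∈ Z ∧ z ≠ 1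
  nZ : ∀ g ∈ P, g ∈ normalizer (S : Set G) → ∀ z ∈ Z, g * z * g⁻¹ ∈ Z
  tr : ∀ z ∈ Z, ∀ z' ∈ Z, z ≠ 1 → z' ≠ 1 → ∃ g ∈ P, g ∈ normalizer (S : Set G) ∧ g * z * g⁻¹ = z'
  mv : ∃ z ∈ Z, z ∉ CK P' V DD
  orb : ∀ B, Fr V DD B → ∀ B', Fr V DD B' → ∃ s ∈ S, cj s ⁅V, B⁆ = ⁅V, B'⁆
  n0 : ∀ B, Fr V DD B → ¬ ⁅V, B⁆ ≤ CK P' V DD

namespace Fam

variable {S P P' U V J : Subgroup G} {DD : Set (Subgroup G)} (F : Fam S P P' U V J DD)

include F

theorem Fr_conj_S {s : G} (hs : s ∈ S) {B : Subgroup G} (hB : Fr V DD B) : Fr V DD (cj s B) := by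
  refine ⟨F.DP B hB.1 s (F.SP hs), fun h => hB.2 ?_⟩
  rw [cj_le_iff, cj_centralizer, cj_eq_of_mem_normalizer (F.VP' (inv_mem (F.SP' hs)))] at h
  exact h

theorem cen_conj_S {s : G} (hs : s ∈ S) {B : Subgroup G} (hB : B ≤ centralizer (V : Set G)) :
    cj s B ≤ centralizer (V : Set G) := by
  rw [cj_le_iff, cj_centralizer, cj_eq_of_mem_normalizer (F.VP' (inv_mem (F.SP' hs)))]
  exact hB

theorem conj_commutator {B : Subgroup G} (hB : Fr V DD B) {g : G} (hg : g ∈ P) :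
    cj g ⁅V, B⁆ = ⁅U, cj g B⁆ := by
  rw [← F.commutator_eq hB, cj_comm, cj_eq_of_mem_normalizer (F.UP hg)]

theorem le_CK {B : Subgroup G} (hB : Fr V DD B) {g : G} (hg : g ∈ P) (hV : cj g B ≤ centralizer (V : Set G)) :
    ⁅U, cj g B⁆ ≤ CK P' V DD := fun _ hx =>
  mem_centralizer_iff.2 fun _ hk => F.four hB hg hV hx hk

omit F in
theorem le_M1 {B : Subgroup G} (hB : Fr V DD B) : ⁅V, B⁆ ≤ M1 V DD := fun _ hx =>
  subset_closure ⟨B, hB, hx⟩

theorem M1_le : M1 V DD ≤ V := by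
  rw [M1, closure_le]
  rintro x ⟨B, hB, hx⟩
  by_cases h1 : x = 1
  · rw [h1]; exact one_mem _
  · exact F.WW_V ⟨h1, B, hB, hx⟩

omit F in
/-- `M1^g` is generated by the conjugates. -/
theorem cj_M1_le {g : G} {K : Subgroup G} (h : ∀ B, Fr V DD B → cj g ⁅V, B⁆ ≤ K) : cj g (M1 V DD) ≤ K := by
  rw [cj_le_iff, M1, closure_le]
  rintro x ⟨B, hB, hx⟩
  exact (cj_le_iff.1 (h B hB)) hx

variable {Z : Subgroup G} (T : TrHyp S P P' U V DD Z)

include T

/-- step 1 -/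
theorem step1 {τ : G} (hτ : τ ∈ P) (hτS : τ ∈ normalizer (S : Set G)) {B : Subgroup G} (hB : Fr V DD B)
    (h : Fr V DD (cj τ B)) {B' : Subgroup G} (hB' : Fr V DD B') : Fr V DD (cj τ B') := by
  refine ⟨F.DP B' hB'.1 τ hτ, fun hc => ?_⟩
  obtain ⟨s, hs, e⟩ := T.orb B hB B' hB'
  have hs' : τ * s * τ⁻¹ ∈ S := (mem_normalizer_iff.1 hτS s).1 hs
  have h1 := F.Fr_conj_S hs' h
  refine T.n0 _ h1 ?_
  have h2 := F.le_CK hB' hτ hc
  rw [← F.conj_commutator hB' hτ, ← e, cj_cj] at h2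
  have e2 : τ * s = (τ * s * τ⁻¹) * τ := by group
  rw [e2, ← cj_cj, F.conj_commutator hB hτ, F.commutator_eq h, cj_comm,
    cj_eq_of_mem_normalizer (F.VP' (F.SP' hs'))] at h2
  exact h2

omit T in
theorem norm_M1 : S ≤ normalizer (M1 V DD : Set G) := by
  intro s hs
  have h1 : ∀ t ∈ S, cj t (M1 V DD) ≤ M1 V DD := fun t ht => by
    refine cj_M1_le fun B hB => ?_
    rw [cj_comm, cj_eq_of_mem_normalizer (F.VP' (F.SP' ht))]
    exact le_M1 (F.Fr_conj_S ht hB)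
  rw [mem_normalizer_iff_cj]
  refine le_antisymm (h1 s hs) ?_
  have h2 := cj_mono s (h1 s⁻¹ (inv_mem hs))
  rwa [cj_cj_inv] at h2

/-- step 2: `Z ≤ M1` -/
theorem Z_le_M1 : Z ≤ M1 V DD := by
  obtain ⟨B0, hB0⟩ := F.ex
  have hne : M1 V DD ≠ ⊥ := fun h0 => T.n0 B0 hB0 fun x hx => by
    have h1 := le_M1 hB0 hx
    rw [h0, mem_bot] at h1
    rw [h1]; exact one_mem _
  obtain ⟨z1, hz1, hz1Z, hz11⟩ := T.fx _ (F.M1_le.trans F.VU) F.norm_M1 hne
  -- elements of `Z` outside `C(KK)` are in `M1`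
  have key : ∀ z ∈ Z, z ∉ CK P' V DD → z ∈ M1 V DD := by
    intro z hz hzC
    have hz1' : z ≠ 1 := fun h0 => hzC (h0 ▸ one_mem _)
    obtain ⟨τ, hτ, hτS, e⟩ := T.tr z1 hz1Z z hz hz11 hz1'
    have hzτ : z ∈ cj τ (M1 V DD) := e ▸ mem_cj_of hz1
    by_cases hA : Fr V DD (cj τ B0)
    · have h1 : cj τ (M1 V DD) ≤ M1 V DD := cj_M1_le fun B hB => by
        have h2 := F.step1 T hτ hτS hB0 hA hB
        rw [F.conj_commutator hB hτ, F.commutator_eq h2]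
        exact le_M1 h2
      exact h1 hzτ
    · exfalso
      apply hzC
      have h1 : cj τ (M1 V DD) ≤ CK P' V DD := cj_M1_le fun B hB => by
        rw [F.conj_commutator hB hτ]
        refine F.le_CK hB hτ ?_
        by_contra hc
        exact hA (F.step1 T hτ hτS hB ⟨F.DP B hB.1 τ hτ, hc⟩ hB0)
      exact h1 hzτ
  obtain ⟨z, hz, hzC⟩ := T.mv
  intro y hy
  by_cases hyC : y ∈ CK P' V DD
  · have h1 : z * y ∉ CK P' V DD := fun h => hzC (by
      have h2 := mul_mem h (inv_mem hyC)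
      rwa [mul_inv_cancel_right] at h2)
    have h2 := mul_mem (inv_mem (key z hz hzC)) (key _ (mul_mem hz hy) h1)
    rwa [inv_mul_cancel_left] at h2
  · exact key y hy hyC

/-- step 3: `N_P(S)` permutes the members which do not centralise `V`. -/
theorem step3 {τ : G} (hτ : τ ∈ P) (hτS : τ ∈ normalizer (S : Set G)) {B : Subgroup G} (hB : Fr V DD B) :
    Fr V DD (cj τ B) := by
  refine ⟨F.DP B hB.1 τ hτ, fun hc => ?_⟩
  obtain ⟨z, hz, hzC⟩ := T.mv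
  apply hzC
  have h1 : cj τ (M1 V DD) ≤ CK P' V DD := cj_M1_le fun B' hB' => by
    rw [F.conj_commutator hB' hτ]
    refine F.le_CK hB' hτ ?_
    by_contra hc'
    exact (F.step1 T hτ hτS hB' ⟨F.DP B' hB'.1 τ hτ, hc'⟩ hB).2 hc
  have h2 : z ∈ cj τ (M1 V DD) := by
    rw [mem_cj]
    have h3 := T.nZ τ⁻¹ (inv_mem hτ) (inv_mem hτS) z hz
    rw [inv_inv] at h3
    exact F.Z_le_M1 T h3
  exact h1 h2

/-- step 4: `P` permutes the members which do not centralise `V`. -/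
theorem step4 {g : G} (hg : g ∈ P) {B : Subgroup G} (hB : Fr V DD B) : Fr V DD (cj g B) := by
  refine ⟨F.DP B hB.1 g hg, fun hc => ?_⟩
  -- the group generated by the `S`-conjugates of `[U, B^g]`
  let M' : Subgroup G := closure {x | ∃ s ∈ S, x ∈ ⁅U, cj (s * g) B⁆}
  have hsg : ∀ s ∈ S, cj (s * g) B ≤ centralizer (V : Set G) := fun s hs => by
    rw [← cj_cj]; exact F.cen_conj_S hs hc
  have hM'U : M' ≤ U := by
    rw [closure_le]
    rintro x ⟨s, hs, hx⟩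
    by_cases h1 : x = 1
    · rw [h1]; exact one_mem _
    · exact F.WP_sub ⟨h1, B, hB, s * g, mul_mem (F.SP hs) hg, hx⟩
  have hM'S : ∀ t ∈ S, cj t M' ≤ M' := by
    intro t ht
    rw [cj_le_iff, closure_le]
    rintro x ⟨s, hs, hx⟩
    rw [SetLike.mem_coe, mem_cj]
    refine subset_closure ⟨t * s, mul_mem ht hs, ?_⟩
    have h1 := mem_cj_of (g := t) hx
    rw [cj_comm, cj_cj, cj_eq_of_mem_normalizer (F.UP (F.SP ht)), ← mul_assoc] at h1
    have e : t⁻¹⁻¹ * x * t⁻¹ = t * x * t⁻¹ := by group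
    rwa [e]
  have hM'N : S ≤ normalizer (M' : Set G) := by
    intro s hs
    rw [mem_normalizer_iff_cj]
    refine le_antisymm (hM'S s hs) ?_
    have h2 := cj_mono s (hM'S s⁻¹ (inv_mem hs))
    rwa [cj_cj_inv] at h2
  have hne : M' ≠ ⊥ := by
    intro h0
    have h1 : ⁅U, cj g B⁆ ≤ M' := fun x hx => subset_closure ⟨1, one_mem _, by rwa [one_mul]⟩
    rw [h0, ← F.conj_commutator hB hg, cj_le_iff] at h1
    refine T.n0 B hB fun x hx => ?_
    have h2 := h1 hx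
    rw [mem_cj, mem_bot] at h2
    have h3 : x = 1 := by
      have e : x = g⁻¹ * (g⁻¹⁻¹ * x * g⁻¹) * g := by group
      rw [e, h2]; group
    rw [h3]; exact one_mem _
  obtain ⟨z', hz', hz'Z, hz'1⟩ := T.fx M' hM'U hM'N hne
  obtain ⟨z, hz, hzC⟩ := T.mv
  have hz1 : z ≠ 1 := fun h0 => hzC (h0 ▸ one_mem _)
  obtain ⟨τ, hτ, hτS, e⟩ := T.tr z' hz'Z z hz hz'1 hz1
  apply hzC
  have h1 : cj τ M' ≤ CK P' V DD := by
    rw [cj_le_iff, closure_le]
    rintro x ⟨s, hs, hx⟩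
    have hsgP : s * g ∈ P := mul_mem (F.SP hs) hg
    have h2 : cj (τ * (s * g)) B ≤ centralizer (V : Set G) := by
      by_contra hc'
      have h3 : Fr V DD (cj (τ * (s * g)) B) := ⟨F.DP B hB.1 _ (mul_mem hτ hsgP), hc'⟩
      have h4 := F.step3 T (inv_mem hτ) (inv_mem hτS) h3
      rw [cj_cj, inv_mul_cancel_left] at h4
      exact h4.2 (hsg s hs)
    have h5 := F.le_CK hB (mul_mem hτ hsgP) h2
    have h6 := mem_cj_of (g := τ) hx
    rw [cj_comm, cj_cj, cj_eq_of_mem_normalizer (F.UP hτ)] at h6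
    rw [SetLike.mem_coe, mem_cj]
    have e2 : τ⁻¹⁻¹ * x * τ⁻¹ = τ * x * τ⁻¹ := by group
    rw [e2]
    exact h5 h6
  rw [← e]
  exact h1 (mem_cj_of hz')

/-- `M1` is normalised by `P`. -/
theorem M1_norm : P ≤ normalizer (M1 V DD : Set G) := by
  have h1 : ∀ t ∈ P, cj t (M1 V DD) ≤ M1 V DD := fun t ht => by
    refine cj_M1_le fun B hB => ?_
    have h2 := F.step4 T ht hB
    rw [F.conj_commutator hB ht, F.commutator_eq h2]
    exact le_M1 h2
  intro s hs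
  rw [mem_normalizer_iff_cj]
  refine le_antisymm (h1 s hs) ?_
  have h2 := cj_mono s (h1 s⁻¹ (inv_mem hs))
  rwa [cj_cj_inv] at h2

end Fam

end Cfsg.Agent.Omega.NO3S.ThmB
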